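import Groth.Agent.Red.K214.SpecDual

/-!
# A Chevalley system of a split group over `ℤ`
-/

set_option autoImplicit false
universe u
open CategoryTheory MonoidalCategory CartesianMonoidalCategory MonObj GrpObj AlgebraicGeometry Limits
open TensorProduct

namespace K214.ZSpec

open Groth.Agent.Sga3B Groth.Agent.Sga3B.Cell Groth.Agent.Sga3B.PinMod
  Groth.Agent.Sga3B.GaPts Groth.Agent.Sga3.H811.Pts K214.Basic K214.DatumChev K214.SpecPt K214.FnForm
  K214.SpecDual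

section R

variable {R : Type u} [CommRing R] {G : Over (Spec (CommRingCat.of R))} [GrpObj G] (D : Red.SplitRed G)
  (b : D.P.Base)

include b in
/-- Dual root homomorphisms and the action of Weyl elements, over an affine base. -/
theorem exists_dual : ∃ κ : D.idx → Rˣ, ∀ a,
    Rule (D.u a) (scaleHom (κ a : R) ≫ D.u (D.P.reflectionPerm a a)) (av D a) ∧
    ∀ c, ∃ r : Rˣ, ∀ (X : Over (Spec (CommRingCat.of R))) (x : Γ(X.left, ⊤)),
      N (D.u a) (scaleHom (κ a : R) ≫ D.u (D.P.reflectionPerm a a)) X * V (D.u c) X x *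
      (N (D.u a) (scaleHom (κ a : R) ≫ D.u (D.P.reflectionPerm a a)) X)⁻¹ =
      V (D.u (D.P.reflectionPerm a c)) X (sc X (r : R) * x) := by
  have := D.reductive.1
  obtain ⟨c⟩ := exists_chart G (𝟙 (Spec (CommRingCat.of R)))
  have hsm := c.smooth D.reductive
  have hdom : ∀ (K : Type u) [Field K] [Algebra R K], IsDomain (K ⊗[R] c.A) :=
    fun K _ _ => c.geomDom D.reductive K
  have hG := c.good D
  have hrel : ∀ a : D.idx, ∃ κ : Rˣ, Rel (D := c.datum D) D.P a κ := by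
    intro a
    refine exists_rel (D := c.datum D) hdom hG D.P (fun _ => rfl) D.pairing_eq b a ?_
    obtain ⟨n, hn⟩ := PinModelOf.exists_acts D c a
    exact ⟨n, fun t => PinModelOf.conj_of_acts (D := c.datum D) D.P (fun _ => rfl) D.pairing_eq hn t⟩
  choose κ hκ using hrel
  refine ⟨κ, fun a => ⟨rule_of_rel (hκ a), fun d => ?_⟩⟩
  obtain ⟨r, hr⟩ := exists_conj (D := c.datum D) hG D.P (fun _ => rfl) D.pairing_eq b (hκ a) d
  exact ⟨r, fun X x => conj_of_conj hr X x⟩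

end R

/-- the units of `ℤ` -/
lemma exists_eps (r : (ULift.{u} ℤ)ˣ) :
    ∃ ε : ℤ, (ε = 1 ∨ ε = -1) ∧ (r : ULift.{u} ℤ) = (ε : ULift.{u} ℤ) := by
  let e : ULift.{u} ℤ ≃+* ℤ := ULift.ringEquiv
  refine ⟨e r, ?_, ?_⟩
  · exact Int.isUnit_iff.mp ((Units.map (e : ULift.{u} ℤ →* ℤ) r).isUnit)
  · apply e.injective
    rw [map_intCast]; simp

/-- **A Chevalley system over `ℤ`.** -/
theorem exists_chev {G : Over (Spec (CommRingCat.of (ULift.{u} ℤ)))} [GrpObj G] (D : Red.SplitRed G)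
    (b : D.P.Base) : ∃ ud : D.idx → (Red.Ga _ ⟶ G), ∀ a, IsMonHom (ud a) ∧
      Rule (D.u a) (ud a) (av D a) ∧
      ∀ c, ∃ ε : ℤ, (ε = 1 ∨ ε = -1) ∧ ∀ (X : Over (Spec (CommRingCat.of (ULift.{u} ℤ))))
        (x : Γ(X.left, ⊤)), N (D.u a) (ud a) X * V (D.u c) X x * (N (D.u a) (ud a) X)⁻¹ =
          V (D.u (D.P.reflectionPerm a c)) X ((ε : Γ(X.left, ⊤)) * x) := by
  obtain ⟨κ, hκ⟩ := exists_dual D b
  have := fun a => (D.rootHom a).1
  refine ⟨fun a => scaleHom (κ a : ULift.{u} ℤ) ≫ D.u (D.P.reflectionPerm a a), fun a =>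
    ⟨inferInstance, (hκ a).1, fun c => ?_⟩⟩
  obtain ⟨r, hr⟩ := (hκ a).2 c
  obtain ⟨ε, hε, hrε⟩ := exists_eps r
  refine ⟨ε, hε, fun X x => ?_⟩
  rw [hr, hrε, map_intCast]

end K214.ZSpec
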