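import Groth.Agent.Sga3B.ChartGood
import Groth.Agent.Sga3B.AlgBc2
import Groth.Agent.Sga3B.RG.BrHc2
import Groth.Agent.Sga3B.SplitBc264b

/-!
# The type of a split reductive group is determined by one geometric fibre
-/

set_option autoImplicit false
universe u
open CategoryTheory MonoidalCategory CartesianMonoidalCategory MonObj GrpObj AlgebraicGeometry Limits

namespace K214.TypeUniq

open Groth.Agent.Sga3B

/-- Two splittings of a reductive group over an algebraically closed field have equivalent root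
data. -/
theorem nonempty_equiv {K : Type u} [Field K] [IsAlgClosed K] {G : Over (Spec (CommRingCat.of K))}
    [GrpObj G] (D₁ D₂ : Red.SplitRed G) : Nonempty (RootPairing.Equiv D₁.P D₂.P) := by
  have hG' : Red.IsReductiveOver K G := AlgBc.isReductive_iff.1 D₁.reductive
  have := hG'.1
  have := hG'.2.1
  have := hG'.2.2.1
  obtain ⟨g, f, -, hf⟩ := RG.BrHc2.exists_conj_iso G D₁.i D₂.i D₁.maximalTorus D₂.maximalTorus
  refine SplitCmp588.nonempty_equiv' D₁ D₂ g fun X t => ⟨t ≫ f.hom, ?_⟩
  rw [Category.assoc, hf, RG.BrHc.comp_conjHom]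

/-- A split group one of whose geometric fibres is of type `Q` is of type `Q`. -/
theorem isSplitOfType {S : Scheme.{u}} {G : Over S} [GrpObj G] (D : Red.SplitRed G) (s : S)
    {ι' M' N' : Type} [AddCommGroup M'] [Module ℤ M'] [AddCommGroup N'] [Module ℤ N']
    (Q : RootPairing ι' ℤ M' N') (hs : Red.IsSplitOfType Q (Red.geomFibre s G)) :
    Red.IsSplitOfType Q G := by
  obtain ⟨E, ⟨e⟩⟩ := hs
  obtain ⟨h⟩ := nonempty_equiv (SplitBc264.splitBc (Red.geomPt s) D) E
  exact ⟨D, ⟨RootPairing.Equiv.comp e h⟩⟩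

end K214.TypeUniq
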