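import Mathlib.LinearAlgebra.RootSystem.Chain
import Mathlib.LinearAlgebra.RootSystem.Finite.Lemmas

/-!
# Strings of roots of a reduced root datum over `ℤ`
-/

set_option autoImplicit false

namespace K214.ChainComb

variable {ι M N : Type*} [AddCommGroup M] [AddCommGroup N] [Finite ι] {P : RootPairing ι ℤ M N}
  {a b : ι}

/-- linear independence -/
def LI (P : RootPairing ι ℤ M N) (a b : ι) : Prop :=
  ∀ r s : ℤ, r • P.root a + s • P.root b = 0 → r = 0 ∧ s = 0

omit [Finite ι] in
lemma pairingIn_int (i j : ι) : P.pairingIn ℤ i j = P.pairing i j := by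
  have := P.algebraMap_pairingIn ℤ i j
  simpa using this

omit [Finite ι] in
lemma LI.lin (h : LI P a b) : LinearIndependent ℤ ![P.root a, P.root b] :=
  LinearIndependent.pair_iff.mpr h

omit [Finite ι] in
lemma LI.symm (h : LI P a b) : LI P b a := fun r s hrs => by
  have := h s r (by rw [add_comm]; exact hrs)
  exact ⟨this.2, this.1⟩

/-- the `a`-string through `b` -/
theorem chain (h : LI P a b) : ∃ p q : ℕ, (p : ℤ) - q = P.pairing b a ∧
    ∀ z : ℤ, P.root b + z • P.root a ∈ Set.range P.root ↔ -(p : ℤ) ≤ z ∧ z ≤ q := by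
  refine ⟨P.chainBotCoeff a b, P.chainTopCoeff a b, ?_, fun z => ?_⟩
  · rw [P.chainBotCoeff_sub_chainTopCoeff h.lin, pairingIn_int]
  · rw [P.root_add_zsmul_mem_range_iff h.lin, Set.mem_Icc]

theorem mem_set [P.IsReduced] (h : LI P a b) : (P.pairing b a, P.pairing a b) ∈
      ({(0, 0), (1, 1), (-1, -1), (1, 2), (2, 1), (-1, -2), (-2, -1), (1, 3), (3, 1), (-1, -3),
        (-3, -1)} : Set (ℤ × ℤ)) := by
  rw [← pairingIn_int, ← pairingIn_int]
  refine P.pairingIn_pairingIn_mem_set_of_isCrystal_of_isRed' b a ?_ ?_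
  · intro h'
    have := h 1 (-1) (by rw [h']; module)
    omega
  · intro h'
    have := h 1 1 (by rw [h']; module)
    omega

theorem pair_cases [P.IsReduced] (h : LI P a b) : (-3 ≤ P.pairing b a ∧ P.pairing b a ≤ 3) ∧
    (P.pairing b a = -3 → P.pairing a b = -1) ∧ (P.pairing b a = -2 → P.pairing a b = -1) ∧
    (P.pairing b a = -1 → P.pairing a b < 0) := by
  have h1 := mem_set h
  simp only [Set.mem_insert_iff, Set.mem_singleton_iff, Prod.mk.injEq] at h1
  omega

omit [Finite ι] in
lemma pairing_of_root {d : ι} {i : ℤ} (h : P.root d = P.root b + i • P.root a) :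
    P.pairing d a = P.pairing b a + 2 * i := by
  have h1 := P.root_coroot'_eq_pairing a d
  rw [h, map_add, map_smul, P.root_coroot'_eq_pairing, P.root_coroot'_eq_pairing, P.pairing_same] at h1
  rw [← h1]
  simp only [smul_eq_mul]
  ring

omit [Finite ι] in
lemma LI.of_root (h : LI P a b) {d : ι} {i : ℤ} (hd : P.root d = P.root b + i • P.root a) :
    LI P a d := by
  intro r s hrs
  rw [hd] at hrs
  have := h (r + s * i) s (by rw [← hrs]; module)
  have h2 := this.2
  subst h2
  have h3 := this.1
  omega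

end K214.ChainComb
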