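import Groth.Agent.Red.K214.ChevSys
import Groth.Agent.Red.K214.ZSpec
import Groth.Agent.S3004
import Groth.Agent.S3950

/-!
# A Chevalley system of a pinned group over any base, from the model over `ℤ`
-/

set_option autoImplicit false
universe u
open CategoryTheory MonoidalCategory CartesianMonoidalCategory MonObj GrpObj AlgebraicGeometry Limits

namespace K214.ZModel

open Groth.Agent.Sga3B Groth.Agent.Sga3B.DSPts Groth.Agent.Sga3B.SplitBc264
  Groth.Agent.Sga3B.GaPts Groth.Agent.Sga3.H811.Pts K214.FnForm K214.ZTrans K214.ChevSys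

variable {S : Scheme.{u}} {G : Over S} [GrpObj G]

/-- The pinned model over `ℤ`. -/
theorem exists_model (D : Red.Pinning G) :
    ∃ (G₀ : Over (Spec (CommRingCat.of (ULift.{u} ℤ)))) (_ : GrpObj G₀) (D₀ : Red.Pinning G₀)
      (h : RootPairing.Equiv D₀.P D.P), (∀ a, a ∈ D₀.base.support ↔ h.indexEquiv a ∈ D.base.support) := by
  have := PinComb.isReduced D.base
  have : Nonempty (Spec (CommRingCat.of (ULift.{u} ℤ))) :=
    inferInstanceAs (Nonempty (PrimeSpectrum (ULift.{u} ℤ)))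
  exact Groth.Agent.S3950.result _ D.P D.base

/-- the system over `ℤ` -/
theorem exists_chev_Z {G₀ : Over (Spec (CommRingCat.of (ULift.{u} ℤ)))} [GrpObj G₀]
    (D₀ : Red.Pinning G₀) : ∃ ud : D₀.idx → (Red.Ga _ ⟶ G₀), Chev D₀.i D₀.split D₀.P D₀.u ud := by
  obtain ⟨ud, hud⟩ := ZSpec.exists_chev D₀.toSplitRed D₀.base
  exact ⟨ud, ⟨D₀.rootHom, fun a => (hud a).1, fun a => (hud a).2.1, fun a => (hud a).2.2⟩⟩

/-- the isomorphism with the model -/
theorem exists_iso [Nonempty S] (D : Red.Pinning G)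
    {G₀ : Over (Spec (CommRingCat.of (ULift.{u} ℤ)))} [GrpObj G₀] (D₀ : Red.Pinning G₀)
    (h : RootPairing.Equiv D.P D₀.P)
    (hΔ : ∀ a, a ∈ D.base.support ↔ h.indexEquiv a ∈ D₀.base.support) :
    ∃ F : Red.bc (specULiftZIsTerminal.from S) G₀ ≅ G, IsMonHom F.hom ∧
      (Over.pullback (specULiftZIsTerminal.from S)).map D₀.i ≫ F.hom =
        (BcIso.bcMapIso (specULiftZIsTerminal.from S) D₀.split ≪≫
          TorusAlgClosed.dsBcIso (specULiftZIsTerminal.from S) D₀.M).hom.hom.hom ≫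
            Red.DSmap S h.weightMap.toAddMonoidHom ≫ D.split.inv.hom.hom ≫ D.i ∧
      ∀ a ∈ D.base.support, tr (specULiftZIsTerminal.from S) F (D₀.u (h.indexEquiv a)) = D.u a := by
  obtain ⟨F, ⟨hFm, hFT, hFu⟩, -⟩ := Groth.Agent.S3004.result S (Red.bc (specULiftZIsTerminal.from S) G₀)
    G (pinBc (specULiftZIsTerminal.from S) D₀) D h hΔ
  refine ⟨F, hFm, hFT, fun a ha => ?_⟩
  rw [← hFu a ha, tr, ← Category.assoc]
  rfl

/-- **A Chevalley system of a pinned group.** -/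
theorem exists_chev [Nonempty S] (D : Red.Pinning G) :
    ∃ v vd : D.idx → (Red.Ga S ⟶ G), Chev D.i D.split D.P v vd ∧ ∀ a ∈ D.base.support, v a = D.u a := by
  obtain ⟨G₀, _, D₀, h₀, hΔ⟩ := exists_model D
  let h : RootPairing.Equiv D.P D₀.P := RootPairing.Equiv.symm _ _ h₀
  have hΔ' : ∀ a, a ∈ D.base.support ↔ h.indexEquiv a ∈ D₀.base.support := by
    intro a
    rw [hΔ]
    change _ ↔ h₀.indexEquiv (h₀.indexEquiv.symm a) ∈ _
    rw [Equiv.apply_symm_apply]
  obtain ⟨F, hFm, hFT, hFu⟩ := exists_iso D D₀ h hΔ'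
  obtain ⟨ud, hud⟩ := exists_chev_Z D₀
  let e' : Grp.mk D.T ≅ Grp.mk (Red.DS S D₀.M) := D.split ≪≫
    PinTransport.dsIso (RootPairing.Equiv.weightEquiv _ _ h).symm.toAddEquiv
  have he : e'.inv.hom.hom = Red.DSmap S h.weightMap.toAddMonoidHom ≫ D.split.inv.hom.hom := rfl
  have h1 := Chev.of_bc (specULiftZIsTerminal.from S) F (e := e') (i := D.i)
    (by rw [hFT, he, Category.assoc]) hud
  exact ⟨_, _, h1.of_equiv D.pairing_eq D₀.pairing_eq h he, hFu⟩

end K214.ZModel
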