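import Groth.Agent.Red.K214.PairKit

/-!
# Type `A₂` at the level of rings
-/

set_option autoImplicit false
set_option linter.unusedSectionVars false
universe u

namespace K214.Pair

open Groth.Agent.Sga3B.Cell Groth.Agent.Sga3B.Cell.Datum Groth.Agent.Sga3B K213.RkOneR K213 PairComb
open K213.Rk2 (swap_list nn_conj nn_sq_conj_odd nn_sq_conj_even nn_rescale rank1_rescale)

variable {R A : Type u} [CommRing R] [CommRing A] [Algebra R A] [PtGrp R A] {D : Datum R A}
variable (P : RootPairing D.idx ℤ D.M (Module.Dual ℤ D.M)) (hP : ∀ a, P.root a = D.root a)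
  (hpe : P.toLinearMap = Module.Dual.eval ℤ D.M) (Δ : P.Base) (hG : D.Good) {a b : D.idx}
  (hI : Ind P a b)
  (hra : Rank1 P a) (hrb : Rank1 P b)

include hP hpe Δ hG hI hra hrb

/-- Type `A₂`, normalized: `u_c = Int(n_b) u_a` -/
theorem a2_norm (pba : P.pairing b a = -1) (pab : P.pairing a b = -1) {c : D.idx}
    (hc : Co a b c 1 1)
    (nb_fa : ∀ {B : Type u} [CommRing B] [Algebra R B] (x : B),
      nn P b B * D.uu a B x * (nn P b B)⁻¹ = D.uu c B x)
    {B : Type u} [CommRing B] [Algebra R B] :
    (∀ x y : B, D.uu b B y * D.uu a B x = D.uu a B x * (D.uu b B y * D.uu c B (x * y))) ∧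
    (∀ x y : B, D.uu c B y * D.uu a B x = D.uu a B x * D.uu c B y) ∧
    (∀ x y : B, D.uu c B y * D.uu b B x = D.uu b B x * D.uu c B y) ∧
    (∀ x : B, nn P a B * D.uu b B x * (nn P a B)⁻¹ = D.uu c B (-x)) ∧
    (∀ x : B, nn P a B * D.uu c B x * (nn P a B)⁻¹ = D.uu b B x) ∧
    (∀ x : B, nn P b B * D.uu c B x * (nn P b B)⁻¹ = D.uu a B (-x)) := by
  have hcls : ∀ (d : D.idx) (i j : ℤ), 0 < i → 0 < j → Co a b d i j → i = 1 ∧ j = 1 :=
    fun d i j hi hj h => PairComb.a2_pos Δ hI pba pab hi hj (Co.root P hP h)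
  obtain ⟨C, hC⟩ := swap_co P hP Δ hG hI co_left co_right (by norm_num) (by norm_num)
    (by norm_num) [(c, 1, 1)] (by simp; exact hc) (by simp) (by
      intro d i j hi hj h
      obtain ⟨h1, h2⟩ := hcls d _ _ (by omega) (by omega) h
      rw [h1, h2] at h
      simp [h.eq hc])
  have hca := fun {B : Type u} [CommRing B] [Algebra R B] => comm_co P hP Δ hG hI
    (co_left (D := D) (a := a) (b := b)) hc (by norm_num) (by norm_num)
    (by norm_num) (by
      intro d i j hi hj h
      have := hcls d _ _ (by omega) (by omega) h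
      omega) (B := B)
  have hcb := fun {B : Type u} [CommRing B] [Algebra R B] => comm_co P hP Δ hG hI
    (co_right (D := D) (a := a) (b := b)) hc (by norm_num) (by norm_num)
    (by norm_num) (by
      intro d i j hi hj h
      have := hcls d _ _ (by omega) (by omega) h
      omega) (B := B)
  have hba : ∀ {B : Type u} [CommRing B] [Algebra R B] (x y : B), D.uu b B y * D.uu a B x =
      D.uu a B x * (D.uu b B y * D.uu c B (algebraMap R B (C c) * x * y)) := by
    intro B _ _ x y
    have := hC x y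
    simpa using this
  obtain ⟨r, hr⟩ := nn_conj P hP hpe Δ hG hra b
  have e1 : P.reflectionPerm a b = c := by
    have := co_refl_left P hP (co_right (D := D) (a := a) (b := b)) pba
    norm_num at this
    exact this.eq hc
  rw [e1] at hr
  have nb_fc : ∀ {B : Type u} [CommRing B] [Algebra R B] (x : B),
      nn P b B * D.uu c B x * (nn P b B)⁻¹ = D.uu a B (-x) := by
    intro B _ _ x
    rw [← nb_fa, nn_sq_conj_odd P hP hpe hrb (by rw [pab]; decide)]
  have na_fc : ∀ {B : Type u} [CommRing B] [Algebra R B] (x : B),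
      nn P a B * D.uu c B x * (nn P a B)⁻¹ = D.uu b B (algebraMap R B (-((r⁻¹ : Rˣ) : R)) * x) := by
    intro B _ _ x
    have h1 : D.uu c B x = nn P a B * D.uu b B (algebraMap R B ((r⁻¹ : Rˣ) : R) * x) *
        (nn P a B)⁻¹ := by
      rw [hr, ← mul_assoc, ← map_mul, Units.mul_inv, map_one, one_mul]
    rw [h1, nn_sq_conj_odd P hP hpe hra (by rw [pba]; decide)]
    congr 1
    rw [map_neg]; ring
  have hconst := Const.a2_consts (fun x : R => D.uu a R x) (fun x => D.uu b R x)
    (fun x => D.uu c R x) (fun x => D.uu (P.reflectionPerm a a) R x)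
    (fun x => D.uu (P.reflectionPerm b b) R x) (fun x y => D.uu_add a x y)
    (fun x y => D.uu_add b x y) (fun x y => D.uu_add c x y) (C c) r (-((r⁻¹ : Rˣ) : R))
    (fun x y => by simpa using hba x y) (fun x y => hca x y) (fun x y => hcb x y)
    (nn P a R) (nn P b R) rfl rfl (fun x => nb_fa x)
    (fun x => (nn_conj_self P hP hpe Δ hG hrb x).1) (fun x => nb_fc x)
    (fun x y => (pair_comm P hP Δ hG hI x y).symm)
    (fun x => (nn_conj_self P hP hpe Δ hG hra x).1) (fun x => by simpa using hr x)
    (fun x => by simpa using na_fc x) (by rw [mul_neg, Units.mul_inv])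
    (fun x y => (pair_comm P hP Δ hG hI.symm x y).symm)
    (by
      intro x₁ x₂ x₃ y₁ y₂ y₃ h
      classical
      obtain ⟨lam, hlam⟩ := exists_lam P hP Δ hI
      have hL : ∀ t ∈ [(a, (1 : ℤ), (0 : ℤ)), (b, 0, 1), (c, 1, 1)], Co a b t.1 t.2.1 t.2.2 := by
        simp only [List.mem_cons, List.not_mem_nil, or_false, forall_eq_or_imp, forall_eq]
        exact ⟨co_left, co_right, hc⟩
      have hnd : [a, b, c].Nodup := nodup_of_co P hP Δ hI
        [(a, 1, 0), (b, 0, 1), (c, 1, 1)] hL (by simp)
      have hab : a ≠ b := hI.ne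
      have hac : a ≠ c := by rintro rfl; simp at hnd
      have hbc : b ≠ c := by rintro rfl; simp at hnd
      have h1 := CommR.uniq hG lam [a, b, c] hnd (by
        simp only [List.mem_cons, List.not_mem_nil, or_false, forall_eq_or_imp, forall_eq]
        exact ⟨hlam a 1 0 co_left (by norm_num), hlam b 0 1 co_right (by norm_num),
          hlam c 1 1 hc (by norm_num)⟩)
        (fun d => if d = a then x₁ else if d = b then x₂ else x₃)
        (fun d => if d = a then y₁ else if d = b then y₂ else y₃)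
        (by simpa [hab, hab.symm, hac, hac.symm, hbc, hbc.symm] using h)
      simpa [hab, hab.symm, hac, hac.symm, hbc, hbc.symm] using h1)
  obtain ⟨h1, h2, h3⟩ := hconst
  refine ⟨fun x y => by simpa [h1] using hba x y, fun x y => hca x y, fun x y => hcb x y,
    fun x => by simpa [h2] using hr x, fun x => by simpa [h3] using na_fc x, fun x => nb_fc x⟩

end K214.Pair

namespace K214.Pair

open Groth.Agent.Sga3B.Cell Groth.Agent.Sga3B.Cell.Datum Groth.Agent.Sga3B K213.RkOneR K213 PairComb
open K213.Rk2 (swap_list nn_conj nn_sq_conj_odd nn_sq_conj_even nn_rescale rank1_rescale)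

variable {R A : Type u} [CommRing R] [CommRing A] [Algebra R A] [PtGrp R A] {D : Datum R A}
variable (P : RootPairing D.idx ℤ D.M (Module.Dual ℤ D.M)) (hP : ∀ a, P.root a = D.root a)
  (hpe : P.toLinearMap = Module.Dual.eval ℤ D.M) (Δ : P.Base) (hG : D.Good) {a b : D.idx}
  (hI : Ind P a b)
  (hra : Rank1 P a) (hrb : Rank1 P b)

include hP hpe Δ hG hI hra hrb

/-- Type `A₂` -/
theorem a2 (pba : P.pairing b a = -1) (pab : P.pairing a b = -1)
    {B : Type u} [CommRing B] [Algebra R B] (uc : B → Pt R A B)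
    (huc : ∀ x, uc x = nn P b B * D.uu a B x * (nn P b B)⁻¹) :
    (∀ x y : B, D.uu b B y * D.uu a B x = D.uu a B x * (D.uu b B y * uc (x * y))) ∧
    (∀ x y : B, uc y * D.uu a B x = D.uu a B x * uc y) ∧
    (∀ x y : B, uc y * D.uu b B x = D.uu b B x * uc y) ∧
    (∀ x : B, nn P a B * D.uu b B x * (nn P a B)⁻¹ = uc (-x)) ∧
    (∀ x : B, nn P a B * uc x * (nn P a B)⁻¹ = D.uu b B x) ∧
    (∀ x : B, nn P b B * uc x * (nn P b B)⁻¹ = D.uu a B (-x)) := by
  classical
  let c := P.reflectionPerm b a
  have hc : Co a b c 1 1 := by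
    have := co_refl_right P hP (co_left (D := D) (a := a) (b := b)) pab
    norm_num at this
    exact this
  obtain ⟨s, hs⟩ := nn_conj P hP hpe Δ hG hrb a
  let ε : D.idx → Rˣ := fun d => if d = c then s else 1
  have ea : ε a = 1 := if_neg (co_left.ne P hP Δ hI hc (by norm_num))
  have eb : ε b = 1 := if_neg (co_right.ne P hP Δ hI hc (by norm_num))
  have ea' : ε (P.reflectionPerm a a) = 1 :=
    if_neg ((co_neg_left P hP).ne P hP Δ hI hc (by norm_num))
  have eb' : ε (P.reflectionPerm b b) = 1 :=
    if_neg ((co_neg_right P hP).ne P hP Δ hI hc (by norm_num))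
  have ec : ε c = s := if_pos rfl
  have hres : ∀ (d : D.idx) {B : Type u} [CommRing B] [Algebra R B] (x : B),
      (D.rescale ε).uu d B x = D.uu d B (algebraMap R B (ε d) * x) := fun d B _ _ x => rfl
  have key := a2_norm (D := D.rescale ε) P hP hpe Δ (Good.rescale D ε hG) hI
    (rank1_rescale ε P ea ea' hra) (rank1_rescale ε P eb eb' hrb) pba pab (c := c) hc
    (by
      intro B _ _ x
      rw [nn_rescale ε P eb eb', hres, hres, ea, ec, Units.val_one, map_one, one_mul]
      exact hs x) (B := B)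
  have huc' : ∀ x, (D.rescale ε).uu c B x = uc x := by
    intro x
    rw [huc, hres, ec]
    exact (hs x).symm
  have hua' : ∀ x, (D.rescale ε).uu a B x = D.uu a B x := by
    intro x
    rw [hres, ea, Units.val_one, map_one, one_mul]
  have hub' : ∀ x, (D.rescale ε).uu b B x = D.uu b B x := by
    intro x
    rw [hres, eb, Units.val_one, map_one, one_mul]
  simp only [huc', hua', hub', nn_rescale ε P ea ea', nn_rescale ε P eb eb'] at key
  exact key

end K214.Pair
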