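import Mathlib.Algebra.Group.Basic
import Mathlib.Algebra.Ring.Basic
import Mathlib.Algebra.Group.Commute.Basic
import Mathlib.Tactic.Ring
import Mathlib.Tactic.Group

/-!
# Commutators from the straightening rules of rank two
-/

set_option autoImplicit false

namespace K214.PairComm

variable {B Γ : Type*} [CommRing B] [Group Γ]

lemma zero_of_add {u : B → Γ} (h : ∀ x y, u (x + y) = u x * u y) : u 0 = 1 := by
  have h1 := h 0 0
  rw [add_zero] at h1
  exact (mul_eq_left.mp h1.symm)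

lemma neg_of_add {u : B → Γ} (h : ∀ x y, u (x + y) = u x * u y) (x : B) : u (-x) = (u x)⁻¹ := by
  rw [eq_inv_iff_mul_eq_one, ← h, neg_add_cancel, zero_of_add h]

lemma comm_central {Y X Z : Γ} (h : Y * X = X * (Y * Z)) (hx : Z * X = X * Z) (hy : Z * Y = Y * Z) :
    Y * X * Y⁻¹ * X⁻¹ = Z := by
  rw [h, ← hy, ← mul_assoc, ← hx, mul_inv_cancel_right, mul_inv_cancel_right]

lemma conj_of {X C Z : Γ} (h : C * X⁻¹ = X⁻¹ * (C * Z)) : X * C * X⁻¹ = C * Z := by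
  rw [mul_assoc, h, mul_inv_cancel_left]

lemma comm_conj {Y X Z : Γ} (h : Y * X = X * (Y * Z)) : Y * X * Y⁻¹ * X⁻¹ = X * (Y * Z * Y⁻¹) * X⁻¹ := by
  rw [h]; group

lemma conj_mul (X a b : Γ) : X * (a * b) * X⁻¹ = (X * a * X⁻¹) * (X * b * X⁻¹) := by group

lemma conj_comm {X a : Γ} (h : a * X = X * a) : X * a * X⁻¹ = a := by rw [← h, mul_inv_cancel_right]

variable {ua ub uc ud ue uf : B → Γ}

/-- `B₂`, string `(1, 2)` -/
theorem b2_12 (aa : ∀ x y, ua (x + y) = ua x * ua y)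
    (ad : ∀ x y, ud (x + y) = ud x * ud y)
    (h1 : ∀ x y : B, ub y * ua x = ua x * (ub y * (uc (x * y) * ud (x ^ 2 * y))))
    (h2 : ∀ x y : B, uc y * ua x = ua x * (uc y * ud (2 * x * y)))
    (h3 : ∀ x y : B, ud y * ua x = ua x * ud y) (h4 : ∀ x y : B, uc y * ub x = ub x * uc y)
    (h5 : ∀ x y : B, ud y * ub x = ub x * ud y) (x y : B) :
    ub y * ua x * (ub y)⁻¹ * (ua x)⁻¹ = uc (x * y) * ud (-(x ^ 2 * y)) := by
  have e1 : ub y * (uc (x * y) * ud (x ^ 2 * y)) * (ub y)⁻¹ = uc (x * y) * ud (x ^ 2 * y) := by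
    rw [conj_mul, conj_comm (h4 _ _), conj_comm (h5 _ _)]
  have e2 : ua x * uc (x * y) * (ua x)⁻¹ = uc (x * y) * ud (2 * (-x) * (x * y)) := by
    apply conj_of
    rw [← neg_of_add aa]
    exact h2 (-x) (x * y)
  rw [comm_conj (h1 x y), e1, conj_mul, e2, conj_comm (h3 _ _), mul_assoc, ← ad]
  congr 2
  ring

/-- `G₂`, string `(1, 3)` -/
theorem g2_13 (aa : ∀ x y, ua (x + y) = ua x * ua y) (ab : ∀ x y, ub (x + y) = ub x * ub y)
    (ad : ∀ x y, ud (x + y) = ud x * ud y) (ae : ∀ x y, ue (x + y) = ue x * ue y)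
    (af : ∀ x y, uf (x + y) = uf x * uf y)
    (h1 : ∀ x y : B, ub y * ua x = ua x * (ub y *
      (uc (x * y) * (ud (x ^ 2 * y) * (ue (x ^ 3 * y) * uf (x ^ 3 * y ^ 2))))))
    (h2 : ∀ x y : B, uc y * ua x = ua x * (uc y * (ud (2 * x * y) *
      (ue (3 * x ^ 2 * y) * uf (3 * x * y ^ 2)))))
    (h3 : ∀ x y : B, ud y * ua x = ua x * (ud y * ue (3 * x * y)))
    (h4 : ∀ x y : B, ue y * ub x = ub x * (ue y * uf (-(x * y))))
    (ea : ∀ x y : B, ue y * ua x = ua x * ue y)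
    (fa : ∀ x y : B, uf y * ua x = ua x * uf y)
    (cb : ∀ x y : B, uc y * ub x = ub x * uc y)
    (db : ∀ x y : B, ud y * ub x = ub x * ud y)
    (fb : ∀ x y : B, uf y * ub x = ub x * uf y)
    (ed : ∀ x y : B, ue y * ud x = ud x * ue y)
    (fd : ∀ x y : B, uf y * ud x = ud x * uf y)
    (fe : ∀ x y : B, uf y * ue x = ue x * uf y) (x y : B) :
    ub y * ua x * (ub y)⁻¹ * (ua x)⁻¹ =
      uc (x * y) * ud (-(x ^ 2 * y)) * ue (x ^ 3 * y) * uf (-(x ^ 3 * y ^ 2)) := by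
  have e1 : ub y * ue (x ^ 3 * y) * (ub y)⁻¹ = ue (x ^ 3 * y) * uf (x ^ 3 * y ^ 2) := by
    apply conj_of
    rw [← neg_of_add ab, h4]
    congr 3
    ring
  have e2 : ua x * uc (x * y) * (ua x)⁻¹ = uc (x * y) * (ud (2 * (-x) * (x * y)) *
      (ue (3 * (-x) ^ 2 * (x * y)) * uf (3 * (-x) * (x * y) ^ 2))) := by
    apply conj_of
    rw [← neg_of_add aa]
    exact h2 (-x) (x * y)
  have e3 : ua x * ud (x ^ 2 * y) * (ua x)⁻¹ = ud (x ^ 2 * y) * ue (3 * (-x) * (x ^ 2 * y)) := by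
    apply conj_of
    rw [← neg_of_add aa]
    exact h3 (-x) (x ^ 2 * y)
  have e5 : ub y * (uc (x * y) * (ud (x ^ 2 * y) * (ue (x ^ 3 * y) * uf (x ^ 3 * y ^ 2)))) * (ub y)⁻¹ =
      uc (x * y) * (ud (x ^ 2 * y) * (ue (x ^ 3 * y) * uf (x ^ 3 * y ^ 2) * uf (x ^ 3 * y ^ 2))) := by
    rw [conj_mul, conj_mul, conj_mul, conj_comm (cb _ _), conj_comm (db _ _), e1,
      conj_comm (fb _ _)]
  have e6 : ua x * (uc (x * y) * (ud (x ^ 2 * y) * (ue (x ^ 3 * y) * uf (x ^ 3 * y ^ 2) *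
      uf (x ^ 3 * y ^ 2)))) * (ua x)⁻¹ = uc (x * y) * (ud (2 * (-x) * (x * y)) *
      (ue (3 * (-x) ^ 2 * (x * y)) * uf (3 * (-x) * (x * y) ^ 2))) *
      (ud (x ^ 2 * y) * ue (3 * (-x) * (x ^ 2 * y)) * (ue (x ^ 3 * y) * uf (x ^ 3 * y ^ 2) *
      uf (x ^ 3 * y ^ 2))) := by
    rw [conj_mul, conj_mul, conj_mul, conj_mul, e2, e3, conj_comm (ea _ _), conj_comm (fa _ _)]
  rw [comm_conj (h1 x y), e5, e6]
  -- collect
  have e4 : ∀ p q r s t w z : B, ud p * (ue q * uf r) * (ud s * ue t * (ue w * uf z * uf z)) =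
      ud (p + s) * ue (q + t + w) * uf (r + z + z) := by
    intro p q r s t w z
    rw [ad, ae, ae, af, af]
    calc ud p * (ue q * uf r) * (ud s * ue t * (ue w * uf z * uf z))
        = ud p * ue q * (uf r * ud s) * ue t * ue w * uf z * uf z := by simp only [mul_assoc]
      _ = ud p * (ue q * ud s) * (uf r * ue t) * ue w * uf z * uf z := by
          rw [fd]; simp only [mul_assoc]
      _ = ud p * (ud s * ue q) * ue t * (uf r * ue w) * uf z * uf z := by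
          rw [ed, fe]; simp only [mul_assoc]
      _ = ud p * ud s * (ue q * ue t * ue w) * (uf r * uf z * uf z) := by
          rw [fe]; simp only [mul_assoc]
  rw [mul_assoc (uc _), e4, mul_assoc (uc _), mul_assoc (uc _)]
  congr 1
  congr 1
  · congr 1
    · congr 1; ring
    · congr 1; ring
  · congr 1; ring

/-- `G₂`, string `(2, 2)` -/
theorem g2_22 (aa : ∀ x y, ua (x + y) = ua x * ua y) (ac : ∀ x y, uc (x + y) = uc x * uc y)
    (ae : ∀ x y, ue (x + y) = ue x * ue y)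
    (af : ∀ x y, uf (x + y) = uf x * uf y)
    (h2 : ∀ x y : B, uc y * ua x = ua x * (uc y * (ud (2 * x * y) *
      (ue (3 * x ^ 2 * y) * uf (3 * x * y ^ 2)))))
    (h3 : ∀ x y : B, ud y * ua x = ua x * (ud y * ue (3 * x * y)))
    (h5 : ∀ x y : B, ud y * uc x = uc x * (ud y * uf (3 * x * y)))
    (ea : ∀ x y : B, ue y * ua x = ua x * ue y)
    (fa : ∀ x y : B, uf y * ua x = ua x * uf y)
    (ec : ∀ x y : B, ue y * uc x = uc x * ue y)
    (fc : ∀ x y : B, uf y * uc x = uc x * uf y)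
    (fe : ∀ x y : B, uf y * ue x = ue x * uf y) (x y : B) :
    uc y * ua x * (uc y)⁻¹ * (ua x)⁻¹ =
      ud (2 * x * y) * ue (-(3 * x ^ 2 * y)) * uf (-(3 * x * y ^ 2)) := by
  have e1 : uc y * ud (2 * x * y) * (uc y)⁻¹ = ud (2 * x * y) * uf (3 * (-y) * (2 * x * y)) := by
    apply conj_of
    rw [← neg_of_add ac, h5]
  have e3 : ua x * ud (2 * x * y) * (ua x)⁻¹ = ud (2 * x * y) * ue (3 * (-x) * (2 * x * y)) := by
    apply conj_of
    rw [← neg_of_add aa]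
    exact h3 (-x) _
  have e5 : uc y * (ud (2 * x * y) * (ue (3 * x ^ 2 * y) * uf (3 * x * y ^ 2))) * (uc y)⁻¹ =
      ud (2 * x * y) * uf (3 * (-y) * (2 * x * y)) * (ue (3 * x ^ 2 * y) * uf (3 * x * y ^ 2)) := by
    rw [conj_mul, conj_mul, e1, conj_comm (ec _ _), conj_comm (fc _ _)]
  have e6 : ua x * (ud (2 * x * y) * uf (3 * (-y) * (2 * x * y)) * (ue (3 * x ^ 2 * y) *
      uf (3 * x * y ^ 2))) * (ua x)⁻¹ = ud (2 * x * y) * ue (3 * (-x) * (2 * x * y)) *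
      uf (3 * (-y) * (2 * x * y)) * (ue (3 * x ^ 2 * y) * uf (3 * x * y ^ 2)) := by
    rw [conj_mul, conj_mul, conj_mul, e3, conj_comm (fa _ _), conj_comm (fa _ _), conj_comm (ea _ _)]
  rw [comm_conj (h2 x y), e5, e6]
  have e4 : ∀ p q r s t : B, ud p * ue q * uf r * (ue s * uf t) =
      ud p * ue (q + s) * uf (r + t) := by
    intro p q r s t
    rw [ae, af]
    calc ud p * ue q * uf r * (ue s * uf t)
        = ud p * ue q * (uf r * ue s) * uf t := by simp only [mul_assoc]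
      _ = ud p * (ue q * ue s) * (uf r * uf t) := by
          rw [fe]; simp only [mul_assoc]
  rw [e4]
  congr 1
  · congr 1
    congr 1; ring
  · congr 1; ring

end K214.PairComm
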