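import Groth.Agent.Red.K214.ChevDual
import Groth.Agent.Red.K214.PairComm
import Groth.Agent.Red.K214.PairG
import Groth.Agent.Red.K214.PairB
import Groth.Agent.Red.K214.PairA

/-!
# Commutators of root groups of a Chevalley system

`a, b` independent roots with `b - a` not a root.
-/

set_option autoImplicit false
universe u
open CategoryTheory MonoidalCategory CartesianMonoidalCategory MonObj GrpObj AlgebraicGeometry Limits
open TensorProduct

namespace K214.ChevPts

open Groth.Agent.Sga3B Groth.Agent.Sga3B.Cell Groth.Agent.Sga3B.Cell.Datum Groth.Agent.Sga3B.PinMod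
  Groth.Agent.Sga3B.DSPts
  Groth.Agent.Sga3B.GaPts Groth.Agent.Sga3.H811.Pts K214.FnForm K214.ChevDual
  K213.PtKit K214.PairComb K214.PairComm

variable {S : Scheme.{u}} {G : Over S} [GrpObj G] {R : Type u} [CommRing R]
  {s : Spec (CommRingCat.of R) ⟶ S} (ch : Chart G s)
  {D : Red.SplitRed G} {v vd : D.idx → (Red.Ga S ⟶ G)} {σ : D.idx → D.idx → ℤ}
  (H : Chv D v vd σ) (Δ : D.P.Base) {a b : D.idx} (hI : Ind D.P a b)

lemma ne_neg {I M N : Type*} [AddCommGroup M] [AddCommGroup N] {P : RootPairing I ℤ M N} {a b : I}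
    (hI : Ind P a b) : b ≠ P.reflectionPerm a a ∧ a ≠ P.reflectionPerm b b ∧
      a ≠ P.reflectionPerm a a ∧ b ≠ P.reflectionPerm b b := by
  have h1 : ∀ c, P.root (P.reflectionPerm c c) = - P.root c := by simp
  refine ⟨fun h => ?_, fun h => ?_, fun h => ?_, fun h => ?_⟩
  · have h2 := congrArg P.root h
    rw [h1] at h2
    have := hI.li 1 1 (by rw [h2]; module)
    omega
  · have h2 := congrArg P.root h
    rw [h1] at h2
    have := hI.li 1 1 (by rw [h2]; module)
    omega
  · have h2 := congrArg P.root h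
    rw [h1] at h2
    have := hI.li 2 0 (by
      have : (2 : ℤ) • P.root a + (0 : ℤ) • P.root b = P.root a + P.root a := by module
      rw [this]; nth_rw 2 [h2]; exact add_neg_cancel _)
    omega
  · have h2 := congrArg P.root h
    rw [h1] at h2
    have := hI.li 0 2 (by
      have : (0 : ℤ) • P.root a + (2 : ℤ) • P.root b = P.root b + P.root b := by module
      rw [this]; nth_rw 2 [h2]; exact add_neg_cancel _)
    omega

include H Δ hI in
/-- The datum of a chart, normalised at two independent roots `a, b`. -/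
theorem exists_kit' : ∃ κ : (ch.datum (withU D v H.root)).idx → Rˣ,
      K213.RkOneR.Rank1 (D := (ch.datum (withU D v H.root)).rescale κ) D.P a ∧
      K213.RkOneR.Rank1 (D := (ch.datum (withU D v H.root)).rescale κ) D.P b ∧
      (∀ (B : Type u) [CommRing B] [Algebra R B] (x : B),
        ((ch.datum (withU D v H.root)).rescale κ).uu a B x = Wp ch (v a) B x) ∧
      (∀ (B : Type u) [CommRing B] [Algebra R B] (x : B),
        ((ch.datum (withU D v H.root)).rescale κ).uu b B x = Wp ch (v b) B x) ∧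
      (∀ (B : Type u) [CommRing B] [Algebra R B] (c : D.idx) (x : B),
        K213.RkOneR.nn (D := (ch.datum (withU D v H.root)).rescale κ) D.P a B * Wp ch (v c) B x *
        (K213.RkOneR.nn (D := (ch.datum (withU D v H.root)).rescale κ) D.P a B)⁻¹ =
          Wp ch (v (D.P.reflectionPerm a c)) B ((σ a c : B) * x)) ∧
      (∀ (B : Type u) [CommRing B] [Algebra R B] (c : D.idx) (x : B),
        K213.RkOneR.nn (D := (ch.datum (withU D v H.root)).rescale κ) D.P b B * Wp ch (v c) B x *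
        (K213.RkOneR.nn (D := (ch.datum (withU D v H.root)).rescale κ) D.P b B)⁻¹ =
          Wp ch (v (D.P.reflectionPerm b c)) B ((σ b c : B) * x)) := by
  obtain ⟨h1, h2, h3, h4⟩ := ne_neg hI
  obtain ⟨κ, hκ, ra, rb, na, nb⟩ := exists_kit ch H Δ h1 h2 h3 h4 hI.ne
  have e0 : ∀ (c : D.idx), κ c = 1 → ∀ (B : Type u) [CommRing B] [Algebra R B] (x : B),
        ((ch.datum (withU D v H.root)).rescale κ).uu c B x = Wp ch (v c) B x := by
    intro c hc B _ _ x
    refine Eq.trans ?_ (Wp_eq_uu ch (withU D v H.root) c B x).symm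
    change (ch.datum (withU D v H.root)).uu c B (algebraMap R B (κ c) * x) = _
    rw [hc, Units.val_one, map_one, _root_.one_mul]
  have e1 : ∀ (B : Type u) [CommRing B] [Algebra R B] (c d : D.idx) (x : B) (n : Pt R ch.A B)
      (_ : ch.pts B n = N (v c) (vd c) (tB s B)), n * Wp ch (v d) B x * n⁻¹ =
        Wp ch (v (D.P.reflectionPerm c d)) B ((σ c d : B) * x) := by
    intro B _ _ c d x n hn
    apply (ch.pts B).injective
    rw [map_mul, map_mul, map_inv, hn, pts_Wp, pts_Wp, H.conj]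
    congr 1
    change _ = fnHom s ((σ c d : B) * x)
    rw [map_mul, map_intCast]
    rfl
  exact ⟨κ, ra, rb, e0 a (hκ a h3 h2), e0 b (hκ b h1 h4), fun B _ _ c x => e1 B a c x _ (na B),
    fun B _ _ c x => e1 B b c x _ (nb B)⟩

lemma Wp_add (w : Red.Ga S ⟶ G) [IsMonHom w] (B : Type u) [CommRing B] [Algebra R B] (x y : B) :
    Wp ch w B (x + y) = Wp ch w B x * Wp ch w B y := by
  apply (ch.pts B).injective
  rw [map_mul, pts_Wp, pts_Wp, pts_Wp, ← V_add]
  congr 1
  exact map_add (fnHom s) x y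

include H Δ hI in
theorem a2_chart (pba : D.P.pairing b a = -1) (pab : D.P.pairing a b = -1)
    (B : Type u) [CommRing B] [Algebra R B] (x y : B) :
    Wp ch (v b) B y * Wp ch (v a) B x * (Wp ch (v b) B y)⁻¹ * (Wp ch (v a) B x)⁻¹ =
      Wp ch (v (D.P.reflectionPerm b a)) B ((σ b a : B) * (x * y)) := by
  obtain ⟨κ, ra, rb, ea, eb, na, nb⟩ := exists_kit' ch H Δ hI
  have hG := ch.good (withU D v H.root)
  have key := Pair.a2 (D := (ch.datum (withU D v H.root)).rescale κ) D.P (fun _ => rfl)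
    D.pairing_eq Δ (Good.rescale _ κ hG) hI ra rb pba pab (B := B)
    (fun x => Wp ch (v (D.P.reflectionPerm b a)) B ((σ b a : B) * x))
    (fun x => by rw [ea, nb])
  simp only [ea, eb] at key
  exact comm_central (key.1 x y) (key.2.1 _ _) (key.2.2.1 _ _)

include H Δ hI in
theorem b2_chart (pba : D.P.pairing b a = -2) (pab : D.P.pairing a b = -1)
    (B : Type u) [CommRing B] [Algebra R B] (x y : B) :
    (Wp ch (v b) B y * Wp ch (v a) B x * (Wp ch (v b) B y)⁻¹ * (Wp ch (v a) B x)⁻¹ =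
      Wp ch (v (D.P.reflectionPerm b a)) B ((σ b a : B) * (x * y)) *
      Wp ch (v (D.P.reflectionPerm a b)) B ((σ a b : B) * (-(x ^ 2 * y)))) ∧
    (Wp ch (v (D.P.reflectionPerm b a)) B ((σ b a : B) * y) * Wp ch (v a) B x *
      (Wp ch (v (D.P.reflectionPerm b a)) B ((σ b a : B) * y))⁻¹ * (Wp ch (v a) B x)⁻¹ =
      Wp ch (v (D.P.reflectionPerm a b)) B ((σ a b : B) * (2 * x * y))) := by
  obtain ⟨κ, ra, rb, ea, eb, na, nb⟩ := exists_kit' ch H Δ hI
  have hG := ch.good (withU D v H.root)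
  have key := Pair.b2 (D := (ch.datum (withU D v H.root)).rescale κ) D.P (fun _ => rfl)
    D.pairing_eq Δ (Good.rescale _ κ hG) hI ra rb pba pab (B := B)
    (fun x => Wp ch (v (D.P.reflectionPerm b a)) B ((σ b a : B) * x))
    (fun x => Wp ch (v (D.P.reflectionPerm a b)) B ((σ a b : B) * x))
    (fun x => by rw [ea, nb]) (fun x => by rw [eb, na])
  simp only [ea, eb] at key
  have hm := fun c => (H.root c).1
  obtain ⟨⟨h1, h2, h3, h4, h5, h6⟩, -⟩ := key
  constructor
  · refine b2_12 (ua := Wp ch (v a) B) (ub := Wp ch (v b) B)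
      (uc := fun x => Wp ch (v (D.P.reflectionPerm b a)) B ((σ b a : B) * x))
      (ud := fun x => Wp ch (v (D.P.reflectionPerm a b)) B ((σ a b : B) * x))
      (fun x y => Wp_add ch _ B x y) (fun x y => ?_) h1 h2 h3 h4 h5 x y
    rw [_root_.mul_add, Wp_add]
  · exact comm_central (h2 x y) (h3 _ _) (h6 _ _)

include H Δ hI in
theorem g2_chart (pba : D.P.pairing b a = -3) (pab : D.P.pairing a b = -1)
    (B : Type u) [CommRing B] [Algebra R B] (uc ud ue uf : B → Pt R ch.A B)
    (huc : ∀ x, uc x = Wp ch (v (D.P.reflectionPerm b a)) B ((σ b a : B) * x))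
    (hud : ∀ x, ud x = Wp ch (v (D.P.reflectionPerm a (D.P.reflectionPerm b a))) B
      ((σ a (D.P.reflectionPerm b a) : B) * ((σ b a : B) * x)))
    (hue : ∀ x, ue x = Wp ch (v (D.P.reflectionPerm a b)) B ((σ a b : B) * (-x)))
    (huf : ∀ x, uf x = Wp ch (v (D.P.reflectionPerm b (D.P.reflectionPerm a b))) B
      ((σ b (D.P.reflectionPerm a b) : B) * ((σ a b : B) * (-x))))
    (x y : B) :
    (Wp ch (v b) B y * Wp ch (v a) B x * (Wp ch (v b) B y)⁻¹ * (Wp ch (v a) B x)⁻¹ =
      uc (x * y) * ud (-(x ^ 2 * y)) * ue (x ^ 3 * y) * uf (-(x ^ 3 * y ^ 2))) ∧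
    (uc y * Wp ch (v a) B x * (uc y)⁻¹ * (Wp ch (v a) B x)⁻¹ =
      ud (2 * x * y) * ue (-(3 * x ^ 2 * y)) * uf (-(3 * x * y ^ 2))) ∧
    (ud y * Wp ch (v a) B x * (ud y)⁻¹ * (Wp ch (v a) B x)⁻¹ = ue (3 * x * y)) := by
  obtain ⟨κ, ra, rb, ea, eb, na, nb⟩ := exists_kit' ch H Δ hI
  have hG := ch.good (withU D v H.root)
  have key := Pair.g2 (D := (ch.datum (withU D v H.root)).rescale κ) D.P (fun _ => rfl)
    D.pairing_eq Δ (Good.rescale _ κ hG) hI ra rb pba pab (B := B) uc ud ue uf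
    (fun x => by rw [ea, nb, huc]) (fun x => by rw [huc, na, hud])
    (fun x => by rw [eb, na, hue]) (fun x => by rw [hue, nb, huf])
  simp only [ea, eb] at key
  have hm := fun c => (H.root c).1
  obtain ⟨⟨h1, h2, h3, h4, h5⟩, ⟨h6, h7, h8, h9, h10, h11, h12, h13, h14, h15⟩, -⟩ := key
  have aa := fun x y => Wp_add ch (v a) B x y
  have ab := fun x y => Wp_add ch (v b) B x y
  have ac : ∀ x y, uc (x + y) = uc x * uc y := by
    intro x y
    rw [huc, huc, huc, _root_.mul_add, Wp_add]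
  have ad : ∀ x y, ud (x + y) = ud x * ud y := by
    intro x y
    rw [hud, hud, hud, _root_.mul_add, _root_.mul_add, Wp_add]
  have ae : ∀ x y, ue (x + y) = ue x * ue y := by
    intro x y
    rw [hue, hue, hue, neg_add, _root_.mul_add, Wp_add]
  have af : ∀ x y, uf (x + y) = uf x * uf y := by
    intro x y
    rw [huf, huf, huf, neg_add, _root_.mul_add, _root_.mul_add, Wp_add]
  exact ⟨g2_13 (ua := Wp ch (v a) B) (ub := Wp ch (v b) B) aa ab ad ae af h1 h2 h3 h4 h6 h7 h8 h9
      h10 h13 h14 h15 x y,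
    g2_22 (ua := Wp ch (v a) B) aa ac ae af h2 h3 h5 h6 h7 h11 h12 h15 x y,
    comm_central (h3 x y) (h6 _ _) (h13 _ _)⟩

end K214.ChevPts
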