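import Groth.Agent.Sga3.H811.Pts

/-!
# Elementary lemmas on points of `𝔾_a`, `𝔾_m` and the rank one commutation rule
-/

set_option autoImplicit false
universe u
open CategoryTheory MonoidalCategory CartesianMonoidalCategory MonObj GrpObj AlgebraicGeometry Limits

namespace K214.Basic

open Groth.Agent.Sga3B.DSPts Groth.Agent.Sga3B.GaPts Groth.Agent.Sga3.H811.Pts

variable {S : Scheme.{u}} {G T : Over S} [GrpObj G] [GrpObj T]

/-- A product of two points of `𝔾_a` through a homomorphism. -/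
lemma ga_mul (p : Red.Ga S ⟶ G) [IsMonHom p] {X : Over S} {x y z : X ⟶ Red.Ga S}
    (h : Red.gaFn z = Red.gaFn x + Red.gaFn y) : (x ≫ p) * (y ≫ p) = z ≫ p := by
  rw [← MonObj.mul_comp x y p]
  congr 1
  apply gaFn_injective
  rw [gaFn_mul, h]

/-- The point `0` is sent to the unit. -/
lemma ga_zero (p : Red.Ga S ⟶ G) [IsMonHom p] {X : Over S} {x : X ⟶ Red.Ga S}
    (h : Red.gaFn x = 0) : x ≫ p = 1 := by
  have : x = 1 := by
    apply gaFn_injective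
    rw [h, gaFn_one]
  rw [this, MonObj.one_comp]

/-- The inverse of the image of a point of `𝔾_a`. -/
lemma ga_inv (p : Red.Ga S ⟶ G) [IsMonHom p] {X : Over S} {x y : X ⟶ Red.Ga S}
    (h : Red.gaFn x + Red.gaFn y = 0) : (x ≫ p)⁻¹ = y ≫ p := by
  rw [inv_eq_iff_mul_eq_one]
  rw [ga_mul p (z := gaPt X 0) (by rw [gaFn_gaPt, h]), ga_zero p (by rw [gaFn_gaPt])]

omit [GrpObj T] in
/-- The rank one commutation rule in terms of given points. -/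
lemma rule {i : T ⟶ G} {pp pm : Red.Ga S ⟶ G} {av : Red.Gm S ⟶ T}
    (hF : ∀ (X : Over S) (x y : X ⟶ Red.Ga S), IsUnit (1 + Red.gaFn x * Red.gaFn y) →
      ∃ (x' y' : X ⟶ Red.Ga S) (z : X ⟶ Red.Gm S), Red.gmFn z = 1 + Red.gaFn x * Red.gaFn y ∧
        Red.gaFn x' * Red.gmFn z = Red.gaFn x ∧ Red.gaFn y' * Red.gmFn z = Red.gaFn y ∧
        (x ≫ pp) * (y ≫ pm) = (y' ≫ pm) * (z ≫ av ≫ i) * (x' ≫ pp))
    {X : Over S} {x y x' y' : X ⟶ Red.Ga S} {z : X ⟶ Red.Gm S}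
    (hz : Red.gmFn z = 1 + Red.gaFn x * Red.gaFn y)
    (hx : Red.gaFn x' * Red.gmFn z = Red.gaFn x) (hy : Red.gaFn y' * Red.gmFn z = Red.gaFn y) :
    (x ≫ pp) * (y ≫ pm) = (y' ≫ pm) * (z ≫ av ≫ i) * (x' ≫ pp) := by
  obtain ⟨x'', y'', z', h1, h2, h3, h4⟩ := hF X x y (by rw [← hz]; exact isUnit_gmFn z)
  have hzz : z' = z := gmFn_injective X (by rw [h1, hz])
  subst hzz
  have hxx : x'' = x' := gaFn_injective X ((isUnit_gmFn z').mul_right_cancel (h2.trans hx.symm))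
  have hyy : y'' = y' := gaFn_injective X ((isUnit_gmFn z').mul_right_cancel (h3.trans hy.symm))
  rw [h4, hxx, hyy]

omit [GrpObj T] in
/-- `i(t) p₊(x) = p₊(α(t) x) i(t)`. -/
lemma commP {i : T ⟶ G} {α : T ⟶ Red.Gm S} {pp : Red.Ga S ⟶ G} (h : NormP i α pp)
    {X : Over S} (t : X ⟶ T) {x z : X ⟶ Red.Ga S}
    (hz : Red.gaFn z = Red.gmFn (t ≫ α) * Red.gaFn x) :
    (t ≫ i) * (x ≫ pp) = (z ≫ pp) * (t ≫ i) := by
  have := h.comm t (Red.gaFn x) (Red.gaFn z) hz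
  rwa [gaPt_gaFn, gaPt_gaFn] at this

omit [GrpObj T] in
/-- `i(t) p₋(y) = p₋(α(t)⁻¹ y) i(t)`. -/
lemma commM {i : T ⟶ G} {α : T ⟶ Red.Gm S} {pm : Red.Ga S ⟶ G} (h : NormM i α pm)
    {X : Over S} (t : X ⟶ T) {y z : X ⟶ Red.Ga S}
    (hz : Red.gaFn z * Red.gmFn (t ≫ α) = Red.gaFn y) :
    (t ≫ i) * (y ≫ pm) = (z ≫ pm) * (t ≫ i) := by
  have := h.comm t (Red.gaFn y) (Red.gaFn z) hz
  rwa [gaPt_gaFn, gaPt_gaFn] at this

end K214.Basic
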