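import Groth.Agent.Red.K214.ChevPts

/-!
# Commutators of root groups of a Chevalley system, on points with values in any scheme
-/

set_option autoImplicit false
universe u
open CategoryTheory MonoidalCategory CartesianMonoidalCategory MonObj GrpObj AlgebraicGeometry Limits

namespace K214.ChevComm

open Groth.Agent.Sga3B Groth.Agent.Sga3B.PinMod Groth.Agent.Sga3B.DSPts
  Groth.Agent.Sga3B.GaPts K214.FnForm K214.ChevDual K213.PtKit K214.PairComb K214.ChevPts

variable {S : Scheme.{u}} {G : Over S} [GrpObj G]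
  {D : Red.SplitRed G} {v vd : D.idx → (Red.Ga S ⟶ G)} {σ : D.idx → D.idx → ℤ}
  (H : Chv D v vd σ) (Δ : D.P.Base) {a b : D.idx} (hI : Ind D.P a b)

lemma exists_fnHom {R : Type u} [CommRing R] (s : Spec (CommRingCat.of R) ⟶ S)
    (x : Γ((tB s R : Over S).left, ⊤)) : ∃ r : R, x = fnHom s r := exists_fnOf s x

include H Δ hI in
theorem a2_pts (pba : D.P.pairing b a = -1) (pab : D.P.pairing a b = -1)
    (X : Over S) (x y : Γ(X.left, ⊤)) :
    V (v b) X y * V (v a) X x * (V (v b) X y)⁻¹ * (V (v a) X x)⁻¹ =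
      V (v (D.P.reflectionPerm b a)) X ((σ b a : Γ(X.left, ⊤)) * (x * y)) := by
  apply hom_ext_tB
  intro R _ s g
  obtain ⟨ch⟩ := exists_chart' D R s
  simp only [MonObj.comp_mul, GrpObj.comp_inv, comp_V, map_mul, map_intCast]
  obtain ⟨p, hp⟩ := exists_fnHom s (g.left.appTop x)
  obtain ⟨q, hq⟩ := exists_fnHom s (g.left.appTop y)
  have key := congrArg (ch.pts R) (a2_chart ch H Δ hI pba pab R p q)
  simp only [map_mul, map_inv, pts_Wp, ← fnHom_apply, map_intCast] at key
  rw [hp, hq]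
  exact key

include H Δ hI in
theorem b2_pts (pba : D.P.pairing b a = -2) (pab : D.P.pairing a b = -1)
    (X : Over S) (x y : Γ(X.left, ⊤)) :
    (V (v b) X y * V (v a) X x * (V (v b) X y)⁻¹ * (V (v a) X x)⁻¹ =
      V (v (D.P.reflectionPerm b a)) X ((σ b a : Γ(X.left, ⊤)) * (x * y)) *
      V (v (D.P.reflectionPerm a b)) X ((σ a b : Γ(X.left, ⊤)) * (-(x ^ 2 * y)))) ∧
    (V (v (D.P.reflectionPerm b a)) X ((σ b a : Γ(X.left, ⊤)) * y) * V (v a) X x *
      (V (v (D.P.reflectionPerm b a)) X ((σ b a : Γ(X.left, ⊤)) * y))⁻¹ * (V (v a) X x)⁻¹ =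
      V (v (D.P.reflectionPerm a b)) X ((σ a b : Γ(X.left, ⊤)) * (2 * x * y))) := by
  constructor
  · apply hom_ext_tB
    intro R _ s g
    obtain ⟨ch⟩ := exists_chart' D R s
    simp only [MonObj.comp_mul, GrpObj.comp_inv, comp_V, map_mul, map_intCast, map_neg, map_pow]
    obtain ⟨p, hp⟩ := exists_fnHom s (g.left.appTop x)
    obtain ⟨q, hq⟩ := exists_fnHom s (g.left.appTop y)
    have key := congrArg (ch.pts R) (b2_chart ch H Δ hI pba pab R p q).1
    simp only [map_mul, map_inv, pts_Wp, ← fnHom_apply, map_intCast, map_neg, map_pow] at key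
    rw [hp, hq]
    exact key
  · apply hom_ext_tB
    intro R _ s g
    obtain ⟨ch⟩ := exists_chart' D R s
    simp only [MonObj.comp_mul, GrpObj.comp_inv, comp_V, map_mul, map_intCast, map_ofNat]
    obtain ⟨p, hp⟩ := exists_fnHom s (g.left.appTop x)
    obtain ⟨q, hq⟩ := exists_fnHom s (g.left.appTop y)
    have key := congrArg (ch.pts R) (b2_chart ch H Δ hI pba pab R p q).2
    simp only [map_mul, map_inv, pts_Wp, ← fnHom_apply, map_intCast, map_ofNat] at key
    rw [hp, hq]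
    exact key

/-- the functions `uc, ud, ue, uf` -/
noncomputable def UC (v : D.idx → (Red.Ga S ⟶ G)) (σ : D.idx → D.idx → ℤ) (a b : D.idx) (X : Over S)
    (x : Γ(X.left, ⊤)) : X ⟶ G :=
  V (v (D.P.reflectionPerm b a)) X ((σ b a : Γ(X.left, ⊤)) * x)

@[inherit_doc UC]
noncomputable def UD (v : D.idx → (Red.Ga S ⟶ G)) (σ : D.idx → D.idx → ℤ) (a b : D.idx) (X : Over S)
    (x : Γ(X.left, ⊤)) : X ⟶ G :=
  V (v (D.P.reflectionPerm a (D.P.reflectionPerm b a))) X
    ((σ a (D.P.reflectionPerm b a) : Γ(X.left, ⊤)) * ((σ b a : Γ(X.left, ⊤)) * x))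

@[inherit_doc UC]
noncomputable def UE (v : D.idx → (Red.Ga S ⟶ G)) (σ : D.idx → D.idx → ℤ) (a b : D.idx) (X : Over S)
    (x : Γ(X.left, ⊤)) : X ⟶ G :=
  V (v (D.P.reflectionPerm a b)) X ((σ a b : Γ(X.left, ⊤)) * (-x))

@[inherit_doc UC]
noncomputable def UF (v : D.idx → (Red.Ga S ⟶ G)) (σ : D.idx → D.idx → ℤ) (a b : D.idx) (X : Over S)
    (x : Γ(X.left, ⊤)) : X ⟶ G :=
  V (v (D.P.reflectionPerm b (D.P.reflectionPerm a b))) X
    ((σ b (D.P.reflectionPerm a b) : Γ(X.left, ⊤)) * ((σ a b : Γ(X.left, ⊤)) * (-x)))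

include H Δ hI in
theorem g2_pts (pba : D.P.pairing b a = -3) (pab : D.P.pairing a b = -1)
    (X : Over S) (x y : Γ(X.left, ⊤)) :
    (V (v b) X y * V (v a) X x * (V (v b) X y)⁻¹ * (V (v a) X x)⁻¹ =
      UC v σ a b X (x * y) * UD v σ a b X (-(x ^ 2 * y)) * UE v σ a b X (x ^ 3 * y) *
        UF v σ a b X (-(x ^ 3 * y ^ 2))) ∧
    (UC v σ a b X y * V (v a) X x * (UC v σ a b X y)⁻¹ * (V (v a) X x)⁻¹ =
      UD v σ a b X (2 * x * y) * UE v σ a b X (-(3 * x ^ 2 * y)) * UF v σ a b X (-(3 * x * y ^ 2))) ∧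
    (UD v σ a b X y * V (v a) X x * (UD v σ a b X y)⁻¹ * (V (v a) X x)⁻¹ =
      UE v σ a b X (3 * x * y)) := by
  have key : ∀ {R : Type u} [CommRing R] {s : Spec (CommRingCat.of R) ⟶ S} (ch : Chart G s) (p q : R),
      _ := fun {R} _ {s} ch p q => g2_chart ch H Δ hI pba pab R
        (fun x => Wp ch (v (D.P.reflectionPerm b a)) R ((σ b a : R) * x))
        (fun x => Wp ch (v (D.P.reflectionPerm a (D.P.reflectionPerm b a))) R
          ((σ a (D.P.reflectionPerm b a) : R) * ((σ b a : R) * x)))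
        (fun x => Wp ch (v (D.P.reflectionPerm a b)) R ((σ a b : R) * (-x)))
        (fun x => Wp ch (v (D.P.reflectionPerm b (D.P.reflectionPerm a b))) R
          ((σ b (D.P.reflectionPerm a b) : R) * ((σ a b : R) * (-x))))
        (fun _ => rfl) (fun _ => rfl) (fun _ => rfl) (fun _ => rfl) p q
  refine ⟨?_, ?_, ?_⟩
  · apply hom_ext_tB
    intro R _ s g
    obtain ⟨ch⟩ := exists_chart' D R s
    obtain ⟨p, hp⟩ := exists_fnHom s (g.left.appTop x)
    obtain ⟨q, hq⟩ := exists_fnHom s (g.left.appTop y)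
    have k := congrArg (ch.pts R) (key ch p q).1
    simp only [UC, UD, UE, UF, MonObj.comp_mul, GrpObj.comp_inv, comp_V, map_mul, map_intCast,
      map_neg, map_pow]
    simp only [map_mul, map_inv, pts_Wp, ← fnHom_apply, map_intCast, map_neg, map_pow] at k
    rw [hp, hq]
    exact k
  · apply hom_ext_tB
    intro R _ s g
    obtain ⟨ch⟩ := exists_chart' D R s
    obtain ⟨p, hp⟩ := exists_fnHom s (g.left.appTop x)
    obtain ⟨q, hq⟩ := exists_fnHom s (g.left.appTop y)
    have k := congrArg (ch.pts R) (key ch p q).2.1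
    simp only [UC, UD, UE, UF, MonObj.comp_mul, GrpObj.comp_inv, comp_V, map_mul, map_intCast,
      map_neg, map_pow, map_ofNat]
    simp only [map_mul, map_inv, pts_Wp, ← fnHom_apply, map_intCast, map_neg, map_pow,
      map_ofNat] at k
    rw [hp, hq]
    exact k
  · apply hom_ext_tB
    intro R _ s g
    obtain ⟨ch⟩ := exists_chart' D R s
    obtain ⟨p, hp⟩ := exists_fnHom s (g.left.appTop x)
    obtain ⟨q, hq⟩ := exists_fnHom s (g.left.appTop y)
    have k := congrArg (ch.pts R) (key ch p q).2.2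
    simp only [UC, UD, UE, UF, MonObj.comp_mul, GrpObj.comp_inv, comp_V, map_mul, map_intCast,
      map_neg, map_pow, map_ofNat]
    simp only [map_mul, map_inv, pts_Wp, ← fnHom_apply, map_intCast, map_neg, map_pow,
      map_ofNat] at k
    rw [hp, hq]
    exact k

end K214.ChevComm
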