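import Groth.Agent.Sga3B.PinBuild

/-!
# Rank one relations and Weyl elements for all roots of a good datum

`exists_base_mem`: every root of a root datum with a base lies in some base.
`exists_rank_one`: the rank one relation for every root, with a unit constant.
`exists_conj`: conjugation by the Weyl element of a root maps root groups to root groups.
-/

set_option autoImplicit false
universe u

open TensorProduct

namespace K214.DatumChev

open Groth.Agent.Sga3B Groth.Agent.Sga3B.Cell Groth.Agent.Sga3B.Cell.Datum

/-- Every root is contained in some base. -/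
theorem exists_base_mem {ι M N : Type} [Fintype ι] [AddCommGroup M] [AddCommGroup N]
    [Module.Finite ℤ M] [Module.Free ℤ M]
    {P : RootPairing ι ℤ M N} (b : P.Base) (i : ι) : ∃ b' : P.Base, i ∈ b'.support := by
  obtain ⟨l, a, ha, -, rfl⟩ := PinComb.exists_word b i
  induction l with
  | nil => exact ⟨b, ha⟩
  | cons c l ih =>
    obtain ⟨b', hb'⟩ := ih
    refine ⟨BaseZ.comapBase (RootPairing.Equiv.reflection P c) b', ?_⟩
    rw [BaseZ.mem_comapBase_support]
    change P.reflectionPerm c (P.reflectionPerm c _) ∈ b'.support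
    rw [P.reflectionPerm_self]
    exact hb'

variable {R A : Type u} [CommRing R] [CommRing A] [Algebra R A] [PtGrp R A] {D : Datum R A}

/-- A point acting on the torus as the reflection `s_a`. -/
def IsRefl (P : RootPairing D.idx ℤ D.M (Module.Dual ℤ D.M)) (a : D.idx) (n : Pt R A R) : Prop :=
  ∀ {B : Type u} [CommRing B] [Algebra R B] (t : TPt D.M B), bp B n * D.i B t * (bp B n)⁻¹ =
    D.i B (t * (TPt.cow (P.coroot a) (t (Multiplicative.ofAdd (D.root a))))⁻¹)

/-- The rank one relation with constant `κ`. -/
def Rel (P : RootPairing D.idx ℤ D.M (Module.Dual ℤ D.M)) (a : D.idx) (κ : Rˣ) : Prop :=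
  ∀ {B : Type u} [CommRing B] [Algebra R B] (x y : B)
      (v : Bˣ), (v : B) = 1 + x * y →
      D.uu a B x * D.uu (P.reflectionPerm a a) B (algebraMap R B κ * y) =
      D.uu (P.reflectionPerm a a) B (algebraMap R B κ * ((v⁻¹ : Bˣ) * y)) *
        D.i B (TPt.cow (P.coroot a) v) * D.uu a B ((v⁻¹ : Bˣ) * x)

theorem exists_rel_of_mem [Algebra.Smooth R A] (hdom : ∀ (K : Type u) [Field K] [Algebra R K],
      IsDomain (K ⊗[R] A)) (hG : D.Good)
    (P : RootPairing D.idx ℤ D.M (Module.Dual ℤ D.M)) (hP : ∀ a, P.root a = D.root a)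
    (hpe : P.toLinearMap = Module.Dual.eval ℤ D.M) (b : P.Base)
    {a : D.idx} (ha : a ∈ b.support) (hn : ∃ n : Pt R A R, IsRefl P a n) :
    ∃ κ : Rˣ, Rel P a κ := by
  classical
  have hred : P.IsReduced := PinComb.isReduced b
  have hfp : Algebra.FinitePresentation R A := inferInstance
  have hft : Algebra.FiniteType R A := inferInstance
  obtain ⟨hinj, I, hI, hmem⟩ := PinBuild.cell_props hG P hP b
  have hneg : ∀ a, D.root (P.reflectionPerm a a) = - D.root a := fun a => by
    rw [← hP, ← hP]; simp
  have hpos : ∀ a ∈ b.support, b.IsPos a := fun a ha => RootPairing.Base.isPos_of_mem_support ha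
  have hnpos : ∀ a ∈ b.support, ¬ b.IsPos (P.reflectionPerm a a) := fun a ha =>
    (RootPairing.Base.IsPos.neg_iff_not b a).not.mpr (not_not.mpr (hpos a ha))
  obtain ⟨n, hn⟩ := hn
  have H : RankOneHyp D a (P.reflectionPerm a a) (P.coroot a) (negList b) (posList b) I n :=
      { good := hG
        ft := hft
        dom := hdom
        neg := hneg a
        two := by
          have := P.root_coroot_two a
          rw [hpe] at this
          rw [← hP]
          exact this
        red := by
          intro c hc
          by_cases hac : a = c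
          · exact Or.inl hac.symm
          · right
            rw [← hP, ← hP] at hc
            have hli : ¬ LinearIndependent ℤ ![P.root a, P.root c] := by
              intro hli
              rw [LinearIndependent.pair_iff] at hli
              have := (hli (P.coroot a (P.root c)) (-2) (by rw [← hc]; module)).2
              omega
            have h2 := RootPairing.IsReduced.eq_or_eq_neg (P := P) a c hli
            rcases h2 with h2 | h2
            · exact absurd (P.root.injective h2) hac
            · apply P.root.injective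
              rw [P.root_reflectionPerm, P.reflection_apply_self, h2, neg_neg]
        nodup := allList_nodup b
        compl := mem_allList b
        mem_neg := (mem_negList b).mpr (hnpos a ha)
        mem_pos := (mem_posList b).mpr (hpos a ha)
        inj := hinj
        mem_iff := hmem
        acts := acts_rf hn }
  obtain ⟨κ, hκ⟩ := H.rank_one_norm
  exact ⟨κ, fun x y v hv => hκ x y v hv⟩

variable [Algebra.Smooth R A] (hdom : ∀ (K : Type u) [Field K] [Algebra R K], IsDomain (K ⊗[R] A))
    (hG : D.Good) (P : RootPairing D.idx ℤ D.M (Module.Dual ℤ D.M)) (hP : ∀ a, P.root a = D.root a)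
    (hpe : P.toLinearMap = Module.Dual.eval ℤ D.M) (b : P.Base)

include hdom hG hP hpe b in
/-- **The rank one relation for every root.** -/
theorem exists_rel (a : D.idx) (hn : ∃ n : Pt R A R, IsRefl P a n) : ∃ κ : Rˣ, Rel P a κ := by
  obtain ⟨b', hb'⟩ := exists_base_mem b a
  exact exists_rel_of_mem hdom hG P hP hpe b' hb' hn

/-- the Weyl element `u_a(1) u_{-a}(-κ) u_a(1)` -/
def nn (P : RootPairing D.idx ℤ D.M (Module.Dual ℤ D.M)) (a : D.idx) (κ : Rˣ) (B : Type u)
    [CommRing B] [Algebra R B] : Pt R A B :=
  D.uu a B 1 * D.uu (P.reflectionPerm a a) B (algebraMap R B κ * (-1)) * D.uu a B 1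

omit [Algebra.Smooth R A] in
include hG hP hpe b in
/-- **Conjugation by Weyl elements.** -/
theorem exists_conj {a : D.idx} {κ : Rˣ} (h : Rel P a κ) (c : D.idx) :
    ∃ r : Rˣ, ∀ {B : Type u} [CommRing B] [Algebra R B] (x : B),
      nn P a κ B * D.uu c B x * (nn P a κ B)⁻¹ = D.uu (P.reflectionPerm a c) B (algebraMap R B r * x) := by
  classical
  -- rescale the root group of `-a`
  let ε : D.idx → Rˣ := fun d => if d = P.reflectionPerm a a then κ else 1
  have hne : a ≠ P.reflectionPerm a a := by
    intro h
    have h1 : P.root a = P.root (P.reflectionPerm a a) := congrArg _ h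
    rw [P.root_reflectionPerm, P.reflection_apply_self] at h1
    have h2 : (2 : ℤ) • P.root a = 0 := by
      rw [two_smul]; nth_rw 1 [h1]; exact neg_add_cancel _
    have h3 := P.root_coroot_two a
    have h4 : P.toLinearMap ((2 : ℤ) • P.root a) (P.coroot a) = 0 := by rw [h2, map_zero]; rfl
    rw [map_smul, LinearMap.smul_apply, h3] at h4
    norm_num at h4
  have hε1 : ε a = 1 := by simp [ε, hne]
  have hε2 : ε (P.reflectionPerm a a) = κ := by simp [ε]
  let D₁ := D.rescale ε
  have hG₁ : D₁.Good := Good.rescale D ε hG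
  have rank1 : ∀ {B : Type u} [CommRing B] [Algebra R B] (x y : B) (v : Bˣ),
      (v : B) = 1 + x * y → D₁.uu a B x * D₁.uu (P.reflectionPerm a a) B y =
        D₁.uu (P.reflectionPerm a a) B ((v⁻¹ : Bˣ) * y) * D₁.i B (TPt.cow (P.coroot a) v) *
          D₁.uu a B ((v⁻¹ : Bˣ) * x) := by
    intro B _ _ x y v hv
    change D.uu a B (algebraMap R B (ε a) * x) *
      D.uu (P.reflectionPerm a a) B (algebraMap R B (ε (P.reflectionPerm a a)) * y) =
      D.uu (P.reflectionPerm a a) B (algebraMap R B (ε (P.reflectionPerm a a)) *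
        ((v⁻¹ : Bˣ) * y)) * D.i B (TPt.cow (P.coroot a) v) *
        D.uu a B (algebraMap R B (ε a) * ((v⁻¹ : Bˣ) * x))
    rw [hε1, hε2, Units.val_one, map_one, one_mul, one_mul]
    exact h x y v hv
  obtain ⟨r, hr⟩ := pin_conj (D := D₁) P hP b hG₁ hpe (a := a) rank1 c
  refine ⟨ε (P.reflectionPerm a c) * r * (ε c)⁻¹, fun {B} _ _ x => ?_⟩
  have h1 : (D.uu a B (algebraMap R B (ε a) * 1) *
      D.uu (P.reflectionPerm a a) B (algebraMap R B (ε (P.reflectionPerm a a)) * (-1)) *
      D.uu a B (algebraMap R B (ε a) * 1)) * D.uu c B (algebraMap R B (ε c) *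
        (algebraMap R B ((ε c)⁻¹ : Rˣ) * x)) *
      (D.uu a B (algebraMap R B (ε a) * 1) *
      D.uu (P.reflectionPerm a a) B (algebraMap R B (ε (P.reflectionPerm a a)) * (-1)) *
      D.uu a B (algebraMap R B (ε a) * 1))⁻¹ = D.uu (P.reflectionPerm a c) B
        (algebraMap R B (ε (P.reflectionPerm a c)) * (algebraMap R B r *
          (algebraMap R B ((ε c)⁻¹ : Rˣ) * x))) := hr (algebraMap R B ((ε c)⁻¹ : Rˣ) * x)
  rw [hε1, hε2, Units.val_one, map_one, one_mul, ← mul_assoc (algebraMap R B (ε c)),
    ← map_mul, Units.mul_inv, map_one, one_mul] at h1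
  rw [nn, h1]
  congr 1
  rw [Units.val_mul, Units.val_mul, map_mul, map_mul]
  ring

end K214.DatumChev
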