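import Groth.Agent.Red.K214.Basic

/-!
# Root homomorphisms and coroots as functions of coordinates
-/

set_option autoImplicit false
universe u
open CategoryTheory MonoidalCategory CartesianMonoidalCategory MonObj GrpObj AlgebraicGeometry Limits

namespace K214.FnForm

open Groth.Agent.Sga3B.DSPts Groth.Agent.Sga3B.GaPts Groth.Agent.Sga3.H811.Pts

variable {S : Scheme.{u}} {G T : Over S} [GrpObj G] [GrpObj T]

/-- the point `v(x)` -/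
noncomputable def V (v : Red.Ga S ⟶ G) (X : Over S) (x : Γ(X.left, ⊤)) : X ⟶ G := gaPt X x ≫ v

/-- the point `h(z)` -/
noncomputable def H (h : Red.Gm S ⟶ G) (X : Over S) (z : Γ(X.left, ⊤)ˣ) : X ⟶ G := gmPt X z ≫ h

omit [GrpObj G] in
lemma V_gaFn (v : Red.Ga S ⟶ G) {X : Over S} (x : X ⟶ Red.Ga S) : V v X (Red.gaFn x) = x ≫ v := by
  rw [V, gaPt_gaFn]

omit [GrpObj G] in
lemma V_of_eq (v : Red.Ga S ⟶ G) {X : Over S} {x : X ⟶ Red.Ga S} {y : Γ(X.left, ⊤)}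
    (h : Red.gaFn x = y) : x ≫ v = V v X y := by
  rw [← V_gaFn, h]

lemma gmPt_of_eq {X : Over S} {x : X ⟶ Red.Gm S} {z : Γ(X.left, ⊤)ˣ} (h : Red.gmFn x = z) :
    x = gmPt X z := by
  apply gmFn_injective
  rw [h, gmFn_gmPt]

omit [GrpObj G] in
lemma H_of_eq (h : Red.Gm S ⟶ G) {X : Over S} {x : X ⟶ Red.Gm S} {z : Γ(X.left, ⊤)ˣ}
    (hz : Red.gmFn x = z) : x ≫ h = H h X z := by
  rw [gmPt_of_eq hz, H]

lemma V_add (v : Red.Ga S ⟶ G) [IsMonHom v] {X : Over S} (x y : Γ(X.left, ⊤)) :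
    V v X (x + y) = V v X x * V v X y := by
  rw [V, gaPt_add, MonObj.mul_comp]; rfl

lemma V_zero (v : Red.Ga S ⟶ G) [IsMonHom v] (X : Over S) : V v X 0 = 1 := by
  have h := V_add v (X := X) 0 0
  rw [add_zero] at h
  exact (mul_eq_left.mp h.symm)

lemma V_neg (v : Red.Ga S ⟶ G) [IsMonHom v] {X : Over S} (x : Γ(X.left, ⊤)) :
    V v X (-x) = (V v X x)⁻¹ := by
  rw [eq_inv_iff_mul_eq_one, ← V_add, neg_add_cancel, V_zero]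

omit [GrpObj G] in
lemma comp_V (v : Red.Ga S ⟶ G) {X Y : Over S} (y : Y ⟶ X) (x : Γ(X.left, ⊤)) :
    y ≫ V v X x = V v Y (y.left.appTop x) := by
  rw [V, ← Category.assoc, comp_gaPt, V]

/-- The rank one rule in terms of functions. -/
def Rule (v vd : Red.Ga S ⟶ G) (h : Red.Gm S ⟶ G) : Prop :=
  ∀ (X : Over S) (x y : Γ(X.left, ⊤)) (z : Γ(X.left, ⊤)ˣ), (z : Γ(X.left, ⊤)) = 1 + x * y →
    V v X x * V vd X y = V vd X ((z⁻¹ : Γ(X.left, ⊤)ˣ) * y) * H h X z * V v X ((z⁻¹ : Γ(X.left, ⊤)ˣ) * x)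

/-- The rule in the form of the statements. -/
lemma Rule.pts {v vd : Red.Ga S ⟶ G} {av : Red.Gm S ⟶ T} {i : T ⟶ G} (h : Rule v vd (av ≫ i))
    (X : Over S) (x y : X ⟶ Red.Ga S) (hu : IsUnit (1 + Red.gaFn x * Red.gaFn y)) :
    ∃ (x' y' : X ⟶ Red.Ga S) (z : X ⟶ Red.Gm S), Red.gmFn z = 1 + Red.gaFn x * Red.gaFn y ∧
        Red.gaFn x' * Red.gmFn z = Red.gaFn x ∧ Red.gaFn y' * Red.gmFn z = Red.gaFn y ∧
        (x ≫ v) * (y ≫ vd) = (y' ≫ vd) * (z ≫ av ≫ i) * (x' ≫ v) := by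
  obtain ⟨z, hz⟩ := hu
  refine ⟨gaPt X ((z⁻¹ : Γ(X.left, ⊤)ˣ) * Red.gaFn x), gaPt X ((z⁻¹ : Γ(X.left, ⊤)ˣ) * Red.gaFn y),
    gmPt X z, ?_, ?_, ?_, ?_⟩
  · rw [gmFn_gmPt, hz]
  · rw [gmFn_gmPt, gaFn_gaPt, mul_right_comm, Units.inv_mul, _root_.one_mul]
  · rw [gmFn_gmPt, gaFn_gaPt, mul_right_comm, Units.inv_mul, _root_.one_mul]
  · have := h X _ _ z hz
    rw [V_gaFn, V_gaFn] at this
    exact this

/-- The rule from the form of the statements. -/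
lemma Rule.of_pts {v vd : Red.Ga S ⟶ G} {av : Red.Gm S ⟶ T} {i : T ⟶ G}
    (h : ∀ (X : Over S) (x y : X ⟶ Red.Ga S), IsUnit (1 + Red.gaFn x * Red.gaFn y) →
    ∃ (x' y' : X ⟶ Red.Ga S) (z : X ⟶ Red.Gm S), Red.gmFn z = 1 + Red.gaFn x * Red.gaFn y ∧
        Red.gaFn x' * Red.gmFn z = Red.gaFn x ∧ Red.gaFn y' * Red.gmFn z = Red.gaFn y ∧
        (x ≫ v) * (y ≫ vd) = (y' ≫ vd) * (z ≫ av ≫ i) * (x' ≫ v)) : Rule v vd (av ≫ i) := by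
  intro X x y z hz
  exact K214.Basic.rule h (x := gaPt X x) (y := gaPt X y) (x' := gaPt X ((z⁻¹ : Γ(X.left, ⊤)ˣ) * x))
    (y' := gaPt X ((z⁻¹ : Γ(X.left, ⊤)ˣ) * y)) (z := gmPt X z)
    (by rw [gmFn_gmPt, gaFn_gaPt, gaFn_gaPt, hz])
    (by rw [gmFn_gmPt, gaFn_gaPt, gaFn_gaPt, mul_right_comm, Units.inv_mul, _root_.one_mul])
    (by rw [gmFn_gmPt, gaFn_gaPt, gaFn_gaPt, mul_right_comm, Units.inv_mul, _root_.one_mul])

/-- the Weyl element `v(1) vd(-1) v(1)` -/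
noncomputable def N (v vd : Red.Ga S ⟶ G) (X : Over S) : X ⟶ G := V v X 1 * V vd X (-1) * V v X 1

lemma toUnit_N (e₁ : 𝟙_ (Over S) ⟶ Red.Ga S) (he₁ : Red.gaFn e₁ = 1) (v vd : Red.Ga S ⟶ G)
    [IsMonHom vd] (X : Over S) :
    toUnit X ≫ ((e₁ ≫ v) * (e₁ ≫ vd)⁻¹ * (e₁ ≫ v)) = N v vd X := by
  have h1 : ∀ w : Red.Ga S ⟶ G, toUnit X ≫ e₁ ≫ w = V w X 1 := by
    intro w
    rw [← Category.assoc]
    apply V_of_eq
    rw [gaFn_comp, he₁, map_one]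
  rw [N, MonObj.comp_mul, MonObj.comp_mul, h1, GrpObj.comp_inv, h1, V_neg]

end K214.FnForm
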