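import Groth.Agent.Sga3B.PinComb829

/-!
# The rank two subsystem spanned by two independent roots `a, b` with `b - a` not a root
-/

set_option autoImplicit false

namespace K214.PairComb

open Groth.Agent.Sga3B Module

variable {ι M N : Type*} [AddCommGroup M] [AddCommGroup N]

/-- two linearly independent roots whose difference is not a root -/
structure Ind (P : RootPairing ι ℤ M N) (a b : ι) : Prop where
  li : ∀ r s : ℤ, r • P.root a + s • P.root b = 0 → r = 0 ∧ s = 0
  nr : P.root b - P.root a ∉ Set.range P.root

variable {P : RootPairing ι ℤ M N} {a b : ι}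

lemma neg_mem {x : M} (h : x ∈ Set.range P.root) : -x ∈ Set.range P.root := by
  obtain ⟨d, rfl⟩ := h
  exact ⟨P.reflectionPerm d d, by rw [P.root_reflectionPerm, P.reflection_apply_self]⟩

lemma Ind.symm (h : Ind P a b) : Ind P b a where
  li r s hrs := by
    have := h.li s r (by rw [add_comm]; exact hrs)
    exact ⟨this.2, this.1⟩
  nr hm := h.nr (by simpa using neg_mem hm)

lemma Ind.ne (h : Ind P a b) : a ≠ b := by
  rintro rfl
  have := h.li 1 (-1) (by module)
  omega

/-- linear independence -/
theorem coeff_inj (hp : Ind P a b) {i j i' j' : ℤ}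
    (h : i • P.root a + j • P.root b = i' • P.root a + j' • P.root b) :
    i = i' ∧ j = j' := by
  have := hp.li (i - i') (j - j') (by
    have : (i - i') • P.root a + (j - j') • P.root b = (i • P.root a + j • P.root b) -
      (i' • P.root a + j' • P.root b) := by module
    rw [this, h, sub_self])
  omega

lemma pairing_eq {d c : ι} {i j : ℤ} (h : P.root d = i • P.root a + j • P.root b) :
    P.pairing d c = i * P.pairing a c + j * P.pairing b c := by
  have h1 := P.root_coroot'_eq_pairing c d
  rw [h, map_add, map_smul, map_smul, P.root_coroot'_eq_pairing, P.root_coroot'_eq_pairing] at h1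
  rw [← h1]; rfl

theorem refl_left {d : ι} {i j : ℤ} (h : P.root d = i • P.root a + j • P.root b) :
    P.root (P.reflectionPerm a d) = (-i - j * P.pairing b a) • P.root a + j • P.root b := by
  rw [P.root_reflectionPerm, h, map_add, map_smul, map_smul, P.reflection_apply_self,
    P.reflection_apply_root]
  module

theorem refl_right {d : ι} {i j : ℤ} (h : P.root d = i • P.root a + j • P.root b) :
    P.root (P.reflectionPerm b d) = i • P.root a + (-j - i * P.pairing a b) • P.root b := by
  rw [P.root_reflectionPerm, h, map_add, map_smul, map_smul, P.reflection_apply_self,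
    P.reflection_apply_root]
  module

variable [Finite ι]

theorem exists_sub {i j : ι} (h : 0 < P.pairing i j) (hne : i ≠ j) :
    ∃ d, P.root d = P.root i - P.root j := by
  have : IsReflexive ℤ M := .of_isPerfPair P.toLinearMap
  refine P.root_sub_root_mem_of_pairingIn_pos (i := i) (j := j) ?_ hne
  have := P.algebraMap_pairingIn ℤ i j
  simp only [algebraMap_int_eq, eq_intCast, Int.cast_id] at this
  rwa [this]

variable (Δ : P.Base) (hp : Ind P a b)

include Δ in
theorem mult_one {c d : ι} {n : ℤ} (hn : 0 < n) (h : P.root d = n • P.root c) : n = 1 := by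
  obtain ⟨m, rfl⟩ := Int.eq_ofNat_of_zero_le hn.le
  exact_mod_cast PinComb.eq_one_of_root_eq_nsmul Δ h

include hp in
lemma pairing_nonpos : P.pairing b a ≤ 0 := by
  by_contra h
  push Not at h
  exact hp.nr (exists_sub h hp.ne.symm)

include Δ hp in
lemma not_mem_aux (n : ℕ) : ∀ (d : ι) (j : ℤ), j < 0 →
    P.root d = ((n : ℤ) + 1) • P.root a + j • P.root b → False := by
  have key : ∀ (n : ℕ) (d : ι) (j : ℤ), j < 0 → P.root d = ((n : ℤ) + 1) • P.root a + j • P.root b →
      ∃ e, P.root e = (n : ℤ) • P.root a + j • P.root b := by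
    intro n d j hj h
    have h1 := pairing_nonpos hp
    have h2 := pairing_eq (c := a) h
    rw [P.pairing_same] at h2
    have h3 : 0 < P.pairing d a := by nlinarith
    have hne : d ≠ a := by
      rintro rfl
      have := coeff_inj hp (i := 1) (j := 0) (i' := n + 1) (j' := j) (by rw [← h]; module)
      omega
    obtain ⟨e, he⟩ := exists_sub h3 hne
    exact ⟨e, by rw [he, h]; module⟩
  induction n with
  | zero =>
    intro d j hj h
    obtain ⟨e, he⟩ := key 0 d j hj h
    have h4 : P.root (P.reflectionPerm e e) = (-j) • P.root b := by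
      rw [P.root_reflectionPerm, P.reflection_apply_self, he]; push_cast; module
    have h5 := mult_one Δ (by omega) h4
    apply hp.symm.nr
    refine ⟨d, ?_⟩
    have h6 : j = -1 := by omega
    rw [h, h6]; push_cast; module
  | succ n ih =>
    intro d j hj h
    obtain ⟨e, he⟩ := key (n + 1) d j hj h
    exact ih e j hj (by rw [he]; push_cast; rfl)

include Δ hp in
/-- coefficients of a root in the span have the same sign -/
theorem sign {d : ι} {i j : ℤ} (h : P.root d = i • P.root a + j • P.root b) :
    (0 ≤ i ∧ 0 ≤ j) ∨ (i ≤ 0 ∧ j ≤ 0) := by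
  by_contra hcon
  have h1 : (0 < i ∧ j < 0) ∨ (i < 0 ∧ 0 < j) := by omega
  rcases h1 with ⟨hi, hj⟩ | ⟨hi, hj⟩
  · obtain ⟨n, rfl⟩ : ∃ n : ℕ, i = n + 1 := ⟨(i - 1).toNat, by omega⟩
    exact not_mem_aux Δ hp n d j hj h
  · obtain ⟨n, rfl⟩ : ∃ n : ℕ, j = n + 1 := ⟨(j - 1).toNat, by omega⟩
    exact not_mem_aux Δ hp.symm n d i hi (by rw [h, add_comm])

include Δ hp in
/-- type `A₁ × A₁` -/
theorem a1a1_pos (hba : P.pairing b a = 0) {d : ι} {i j : ℤ} (hi : 0 < i) (hj : 0 < j)
    (h : P.root d = i • P.root a + j • P.root b) : False := by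
  have h1 := sign Δ hp (refl_left h)
  rw [hba] at h1
  omega

include Δ hp in
/-- type `A₂` -/
theorem a2_pos (hba : P.pairing b a = -1) (hab' : P.pairing a b = -1) {d : ι} {i j : ℤ}
    (hi : 0 < i) (hj : 0 < j) (h : P.root d = i • P.root a + j • P.root b) : i = 1 ∧ j = 1 := by
  have h1 := sign Δ hp (refl_left h)
  have h2 := sign Δ hp (refl_right h)
  rw [hba] at h1
  rw [hab'] at h2
  have h3 : i = j := by omega
  subst h3
  have h4 : P.root (P.reflectionPerm a b) = P.root a + P.root b := by
    have := refl_left (P := P) (a := a) (b := b) (d := b) (i := 0) (j := 1) (by module)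
    rw [this, hba]; module
  have h5 : P.root d = i • P.root (P.reflectionPerm a b) := by rw [h, h4]; module
  have := mult_one Δ hi h5
  omega

include Δ hp in
/-- type `B₂`, `a` short -/
theorem b2_pos (hba : P.pairing b a = -2) (hab' : P.pairing a b = -1) {d : ι} {i j : ℤ}
    (hi : 0 < i) (hj : 0 < j) (h : P.root d = i • P.root a + j • P.root b) :
    (i = 1 ∧ j = 1) ∨ (i = 2 ∧ j = 1) := by
  have h1 := sign Δ hp (refl_left h)
  have h2 := sign Δ hp (refl_right h)
  have h3 := sign Δ hp (refl_right (refl_left h))
  rw [hba] at h1 h3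
  rw [hab'] at h2 h3
  have h4 : P.root (P.reflectionPerm b a) = P.root a + P.root b := by
    have := refl_right (P := P) (a := a) (b := b) (d := a) (i := 1) (j := 0) (by module)
    rw [this, hab']; module
  by_cases h5 : i = 2 * j
  · right
    subst h5
    have h6 : P.root (P.reflectionPerm a d) = j • P.root b := by
      rw [refl_left h, hba]; module
    have := mult_one Δ hj h6
    omega
  · left
    have h6 : i = j := by omega
    subst h6
    have h7 : P.root d = i • P.root (P.reflectionPerm b a) := by rw [h, h4]; module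
    have := mult_one Δ hi h7
    omega

include Δ hp in
/-- type `G₂`, `a` short -/
theorem g2_pos (hba : P.pairing b a = -3) (hab' : P.pairing a b = -1) {d : ι} {i j : ℤ}
    (hi : 0 < i) (hj : 0 < j) (h : P.root d = i • P.root a + j • P.root b) :
    (i = 1 ∧ j = 1) ∨ (i = 2 ∧ j = 1) ∨ (i = 3 ∧ j = 1) ∨ (i = 3 ∧ j = 2) := by
  -- first step: `(i, j) = (3, 1)` or `i ≤ 2 j`
  have step1 : ∀ (d : ι) (i j : ℤ), 0 < i → 0 < j → P.root d = i • P.root a + j • P.root b →
      j ≤ i ∧ ((i = 3 ∧ j = 1) ∨ i ≤ 2 * j) := by
    intro d i j hi hj h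
    have h1 := sign Δ hp (refl_left h)
    have h2 := sign Δ hp (refl_right h)
    rw [hba] at h1
    rw [hab'] at h2
    refine ⟨by omega, ?_⟩
    by_cases h5 : i = 3 * j
    · left
      subst h5
      have h6 : P.root (P.reflectionPerm a d) = j • P.root b := by
        rw [refl_left h, hba]; module
      have := mult_one Δ hj h6
      omega
    · right
      have h3 := sign Δ hp (refl_right (refl_left h))
      rw [hba, hab'] at h3
      omega
  obtain ⟨h1, h2⟩ := step1 d i j hi hj h
  have hr := refl_right (P := P) h
  rw [hab'] at hr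
  have h4 : P.root (P.reflectionPerm b a) = P.root a + P.root b := by
    have := refl_right (P := P) (a := a) (b := b) (d := a) (i := 1) (j := 0) (by module)
    rw [this, hab']; module
  by_cases h5 : i = j
  · left
    subst h5
    have h6 : P.root d = i • P.root (P.reflectionPerm b a) := by rw [h, h4]; module
    have := mult_one Δ hi h6
    omega
  · obtain ⟨h6, h7⟩ := step1 _ i (-j - i * -1) hi (by omega) hr
    by_cases h8 : i = 2 * j
    · have h9 : P.root (P.reflectionPerm a (P.reflectionPerm b a)) =
          (2 : ℤ) • P.root a + P.root b := by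
        have := refl_left (P := P) (a := a) (b := b) (d := P.reflectionPerm b a) (i := 1) (j := 1)
          (by rw [h4]; module)
        rw [this, hba]; module
      have h10 : P.root d = j • P.root (P.reflectionPerm a (P.reflectionPerm b a)) := by
        rw [h, h9, h8]; module
      have := mult_one Δ hj h10
      omega
    · omega

end K214.PairComb
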