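import Groth.Agent.Red.K213.Rk2Kit
import Groth.Agent.Red.K214.PairComb

/-!
# Kit for the rank two computations (ring level), for two independent roots `a, b`, `b - a` not a root

This is helper213's `Rk2Kit` with "simple roots" replaced by `PairComb.Ind`.
-/

set_option autoImplicit false
set_option linter.unusedSectionVars false
universe u

namespace K214.Pair

open Groth.Agent.Sga3B.Cell Groth.Agent.Sga3B.Cell.Datum Groth.Agent.Sga3B K213.RkOneR K213 PairComb
open K213.Rk2 (swap_list nn_conj nn_sq_conj_odd nn_sq_conj_even nn_rescale rank1_rescale)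

variable {R A : Type u} [CommRing R] [CommRing A] [Algebra R A] [PtGrp R A] {D : Datum R A}

section two

variable (P : RootPairing D.idx ℤ D.M (Module.Dual ℤ D.M)) (hP : ∀ a, P.root a = D.root a)
  (Δ : P.Base) (hG : D.Good) (a b : D.idx)

/-- coordinates -/
def Co (d : D.idx) (m n : ℤ) : Prop := D.root d = m • D.root a + n • D.root b

variable {a b} (hI : Ind P a b)

lemma co_left : Co a b a 1 0 := by simp [Co]

lemma co_right : Co a b b 0 1 := by simp [Co]

include hP in
lemma Co.root {d : D.idx} {m n : ℤ} (h : Co a b d m n) : P.root d = m • P.root a + n • P.root b := by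
  rw [hP, hP, hP]; exact h

include hP Δ hI in
lemma Co.inj {d d' : D.idx} {m n m' n' : ℤ} (h : Co a b d m n) (h' : Co a b d' m' n')
    (hd : d = d') : m = m' ∧ n = n' := by
  subst hd
  apply PairComb.coeff_inj hI
  rw [← Co.root P hP h, ← Co.root P hP h']

lemma Co.eq {d d' : D.idx} {m n : ℤ} (h : Co a b d m n) (h' : Co a b d' m n) : d = d' :=
  D.root_inj (h.trans h'.symm)

include hP Δ hI in
lemma nodup_of_co (L : List (D.idx × ℤ × ℤ)) (h : ∀ t ∈ L, Co a b t.1 t.2.1 t.2.2)
    (hn : (L.map Prod.snd).Nodup) : (L.map Prod.fst).Nodup := by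
  rw [List.Nodup, List.pairwise_map] at hn ⊢
  refine hn.imp_of_mem ?_
  intro t s ht hs hne heq
  apply hne
  obtain ⟨h1, h2⟩ := (h t ht).inj P hP Δ hI (h s hs) heq
  exact Prod.ext h1 h2

include hP hI in
lemma exists_lam2 (p q : ℤ) : ∃ (lam : D.M →+ ℤ) (N : ℤ), 0 < N ∧ ∀ (d : D.idx) (m n : ℤ),
    Co a b d m n → lam (D.root d) = N * (m * p + n * q) := by
  have hli : LinearIndependent ℤ ![D.root a, D.root b] := by
    rw [LinearIndependent.pair_iff]
    intro s t hst
    apply hI.li
    rw [hP, hP]; exact hst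
  obtain ⟨lam, N, hN, h⟩ := PinComb.exists_functional_of_linearIndependent _ hli ![p, q]
  refine ⟨lam, N, hN, ?_⟩
  intro d m n hd
  have h1 := h 0
  have h2 := h 1
  simp only [Matrix.cons_val_zero, Matrix.cons_val_one] at h1 h2
  rw [hd, map_add, map_zsmul, map_zsmul, h1, h2, smul_eq_mul, smul_eq_mul]
  ring

include hP Δ hI in
lemma exists_lam : ∃ lam : D.M →+ ℤ, ∀ (d : D.idx) (m n : ℤ), Co a b d m n → 0 < m + n →
    0 < lam (D.root d) := by
  obtain ⟨lam, N, hN, h⟩ := exists_lam2 P hP hI 1 1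
  refine ⟨lam, ?_⟩
  intro d m n hd hmn
  rw [h d m n hd]
  nlinarith

include hP Δ hG hI in
/-- exchanging two root group elements, with coordinates -/
theorem swap_co {p q : D.idx} {p1 p2 q1 q2 : ℤ} (hp : Co a b p p1 p2) (hq : Co a b q q1 q2)
    (hp0 : 0 < p1 + p2) (hq0 : 0 < q1 + q2) (hdet : p1 * q2 - p2 * q1 ≠ 0)
    (L₀ : List (D.idx × ℕ × ℕ))
    (he : ∀ t ∈ L₀, Co a b t.1 (t.2.1 * p1 + t.2.2 * q1) (t.2.1 * p2 + t.2.2 * q2))
    (hn : (L₀.map Prod.snd).Nodup)
    (hall : ∀ (d : D.idx) (i j : ℕ), i ≠ 0 → j ≠ 0 → Co a b d (i * p1 + j * q1) (i * p2 + j * q2) →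
      d ∈ L₀.map Prod.fst) :
    ∃ C : D.idx → R, ∀ {B : Type u} [CommRing B] [Algebra R B] (x y : B),
      D.uu q B y * D.uu p B x = D.uu p B x * (D.uu q B y *
        (L₀.map (fun t => D.uu t.1 B (algebraMap R B (C t.1) * x ^ t.2.1 * y ^ t.2.2))).prod) := by
  obtain ⟨lam, hlam⟩ := exists_lam P hP Δ hI
  have hco : ∀ (i j : ℕ), i • D.root p + j • D.root q =
      ((i : ℤ) * p1 + j * q1) • D.root a + ((i : ℤ) * p2 + j * q2) • D.root b := by
    intro i j
    rw [hp, hq]
    module
  have hlin : ∀ i j i' j' : ℕ, i • D.root p + j • D.root q = i' • D.root p + j' • D.root q →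
      i = i' ∧ j = j' := by
    intro i j i' j' h
    rw [hco, hco, ← hP, ← hP] at h
    obtain ⟨h1, h2⟩ := PairComb.coeff_inj hI h
    have h3 : ((i : ℤ) - i') * (p1 * q2 - p2 * q1) = 0 := by linear_combination q2 * h1 - q1 * h2
    have h4 : ((j : ℤ) - j') * (p1 * q2 - p2 * q1) = 0 := by linear_combination p1 * h2 - p2 * h1
    have h5 := (mul_eq_zero.mp h3).resolve_right hdet
    have h6 := (mul_eq_zero.mp h4).resolve_right hdet
    omega
  refine swap_list hG p q lam (hlam p p1 p2 hp hp0) (hlam q q1 q2 hq hq0) hlin L₀ ?_ ?_ ?_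
  · rw [List.Nodup, List.pairwise_map] at hn ⊢
    refine hn.imp_of_mem ?_
    intro t s ht hs hne heq
    apply hne
    have h1 := he t ht
    have h2 := he s hs
    obtain ⟨h1, h2⟩ := hlin t.2.1 t.2.2 s.2.1 s.2.2 (by
      rw [hco, hco]
      rw [heq] at h1
      exact h1.symm.trans h2)
    exact Prod.ext h1 h2
  · intro t ht
    rw [hco]
    exact (he t ht).symm
  · intro d i j hi hj h
    exact hall d i j hi hj (h.symm.trans (hco i j))

include hP Δ hG hI in
/-- commuting root groups -/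
theorem comm_co {p q : D.idx} {p1 p2 q1 q2 : ℤ} (hp : Co a b p p1 p2) (hq : Co a b q q1 q2)
    (hp0 : 0 < p1 + p2) (hq0 : 0 < q1 + q2) (hdet : p1 * q2 - p2 * q1 ≠ 0)
    (hall : ∀ (d : D.idx) (i j : ℕ), i ≠ 0 → j ≠ 0 → Co a b d (i * p1 + j * q1) (i * p2 + j * q2) →
      False)
    {B : Type u} [CommRing B] [Algebra R B] (x y : B) :
    D.uu q B y * D.uu p B x = D.uu p B x * D.uu q B y := by
  obtain ⟨C, hC⟩ := swap_co P hP Δ hG hI hp hq hp0 hq0 hdet [] (by simp) (by simp)
    (fun d i j hi hj h => (hall d i j hi hj h).elim)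
  have := hC x y
  simpa using this

include hP in
lemma co_refl_left {d : D.idx} {m n : ℤ} (h : Co a b d m n) {k : ℤ} (hk : P.pairing b a = k) :
    Co a b (P.reflectionPerm a d) (-m - n * k) n := by
  have := PairComb.refl_left (Co.root P hP h)
  rw [hP, hP, hP, hk] at this
  exact this

include hP in
lemma co_refl_right {d : D.idx} {m n : ℤ} (h : Co a b d m n) {k : ℤ} (hk : P.pairing a b = k) :
    Co a b (P.reflectionPerm b d) m (-n - m * k) := by
  have := PairComb.refl_right (Co.root P hP h)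
  rw [hP, hP, hP, hk] at this
  exact this

include hP in
lemma pairing_left {d : D.idx} {m n : ℤ} (h : Co a b d m n) :
    P.pairing d a = 2 * m + n * P.pairing b a := by
  have h1 := P.root_coroot'_eq_pairing a d
  rw [Co.root P hP h, map_add, map_smul, map_smul, P.root_coroot'_eq_pairing,
    P.root_coroot'_eq_pairing, P.pairing_same] at h1
  rw [← h1]; simp [mul_comm]

include hP in
lemma pairing_right {d : D.idx} {m n : ℤ} (h : Co a b d m n) :
    P.pairing d b = m * P.pairing a b + 2 * n := by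
  have h1 := P.root_coroot'_eq_pairing b d
  rw [Co.root P hP h, map_add, map_smul, map_smul, P.root_coroot'_eq_pairing,
    P.root_coroot'_eq_pairing, P.pairing_same] at h1
  rw [← h1]; simp [mul_comm]

include hP in
lemma co_neg_left : Co a b (P.reflectionPerm a a) (-1) 0 := by
  simp [Co, root_neg P hP]

include hP in
lemma co_neg_right : Co a b (P.reflectionPerm b b) 0 (-1) := by
  simp [Co, root_neg P hP]

include hP Δ hI in
lemma Co.ne {d d' : D.idx} {m n m' n' : ℤ} (h : Co a b d m n) (h' : Co a b d' m' n')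
    (hne : ¬ (m = m' ∧ n = n')) : d ≠ d' :=
  fun hd => hne (h.inj P hP Δ hI h' hd)

include hP Δ hG hI in
/-- `U_a` and `U_{-b}` commute -/
theorem pair_comm {B : Type u} [CommRing B] [Algebra R B] (x y : B) :
    D.uu a B x * D.uu (P.reflectionPerm b b) B y = D.uu (P.reflectionPerm b b) B y * D.uu a B x := by
  obtain ⟨δ, hδ, hδ0⟩ := hG (allList Δ) (allList_nodup Δ) (mem_allList Δ)
  obtain ⟨lam, N, hN, hlam⟩ := exists_lam2 P hP hI 1 (-1)
  have cA : Co a b a 1 0 := co_left
  have cB : Co a b (P.reflectionPerm b b) 0 (-1) := co_neg_right P hP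
  refine uu_comm hδ hδ0 lam (by rw [hlam _ _ _ cA]; nlinarith) (by rw [hlam _ _ _ cB]; nlinarith)
    ?_ x y
  intro d i j hi hj hij
  have h1 : P.root d = (i : ℤ) • P.root a + (-(j : ℤ)) • P.root b := by
    rw [hP, hP, hP, ← hij, root_neg P hP]
    module
  have := PairComb.sign Δ hI h1
  omega

end two


end K214.Pair
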