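import Groth.Agent.Red.K214.DualUniqPt
import Groth.Agent.Red.K214.DatumChev
import Groth.Agent.Red.K214.FnForm
import Groth.Agent.Red.K214.PairKit
import Groth.Agent.Red.K213.PtKit
import Groth.Agent.Sga3B.ChartGood

/-!
# Chevalley systems of a split group in a chart

`Chv D v vd σ`: the family `v, vd` is a Chevalley system with signs `σ` (function form).
`exists_dual_chart`: in a chart the dual root homomorphism `vd c` is `u_{-c}(κ y)` for a unit `κ`.
`exists_kit`: for two roots `a, b`, a rescaling of the datum of a chart in which `a` and `b` are normalised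
(`Rank1`) and in which the Weyl elements are those of the system.
-/

set_option autoImplicit false
universe u
open CategoryTheory MonoidalCategory CartesianMonoidalCategory MonObj GrpObj AlgebraicGeometry Limits
open TensorProduct

namespace K214.ChevDual

open Groth.Agent.Sga3B Groth.Agent.Sga3B.Cell Groth.Agent.Sga3B.Cell.Datum Groth.Agent.Sga3B.PinMod
  Groth.Agent.Sga3B.DSPts
  Groth.Agent.Sga3B.GaPts Groth.Agent.Sga3.H811.Pts K214.FnForm K214.DatumChev K214.DualUniqPt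
  K213.PtKit

variable {S : Scheme.{u}} {G : Over S} [GrpObj G]

/-- change the root homomorphisms of a splitting -/
noncomputable def withU (D : Red.SplitRed G) (v : D.idx → (Red.Ga S ⟶ G))
    (hv : ∀ c, Red.IsRootHom D.i (D.split.hom.hom.hom ≫ Red.chi S (D.P.root c)) (v c)) :
    Red.SplitRed G := { D with u := v, rootHom := hv }

/-- A Chevalley system, in terms of functions. -/
structure Chv (D : Red.SplitRed G) (v vd : D.idx → (Red.Ga S ⟶ G)) (σ : D.idx → D.idx → ℤ) : Prop where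
  root : ∀ c, Red.IsRootHom D.i (D.split.hom.hom.hom ≫ Red.chi S (D.P.root c)) (v c)
  mvd : ∀ c, IsMonHom (vd c)
  rule : ∀ c, Rule (v c) (vd c)
    ((Red.DSmap S (D.P.coroot c).toAddMonoidHom ≫ D.split.inv.hom.hom) ≫ D.i)
  sgn : ∀ c b, σ c b = 1 ∨ σ c b = -1
  conj : ∀ (c b : D.idx) (X : Over S) (x : Γ(X.left, ⊤)),
    N (v c) (vd c) X * V (v b) X x * (N (v c) (vd c) X)⁻¹ =
      V (v (D.P.reflectionPerm c b)) X ((σ c b : Γ(X.left, ⊤)) * x)

/-- A Chevalley system in the form of the statements. -/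
theorem exists_chv (e₁ : 𝟙_ (Over S) ⟶ Red.Ga S) (he₁ : Red.gaFn e₁ = 1) (D : Red.SplitRed G)
    (avc : D.idx → (Red.Gm S ⟶ D.T))
    (havc : ∀ a, avc a = Red.DSmap S (D.P.coroot a).toAddMonoidHom ≫ D.split.inv.hom.hom)
    (v vd : D.idx → (Red.Ga S ⟶ G)) (hv : ∀ c, Red.IsRootHom D.i (D.split.hom.hom.hom ≫ Red.chi S (D.P.root c)) (v c))
    (hvd : ∀ c, IsMonHom (vd c) ∧ ∀ (X : Over S) (x y : X ⟶ Red.Ga S), IsUnit (1 + Red.gaFn x * Red.gaFn y) →
        ∃ (x' y' : X ⟶ Red.Ga S) (z : X ⟶ Red.Gm S), Red.gmFn z = 1 + Red.gaFn x * Red.gaFn y ∧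
          Red.gaFn x' * Red.gmFn z = Red.gaFn x ∧ Red.gaFn y' * Red.gmFn z = Red.gaFn y ∧
          (x ≫ v c) * (y ≫ vd c) = (y' ≫ vd c) * (z ≫ avc c ≫ D.i) * (x' ≫ v c))
    (n : D.idx → (𝟙_ (Over S) ⟶ G)) (hn : ∀ c, n c = (e₁ ≫ v c) * (e₁ ≫ vd c)⁻¹ * (e₁ ≫ v c))
    (hSC : ∀ c b, ∃ ε : ℤ, (ε = 1 ∨ ε = -1) ∧ ∀ (X : Over S) (x y : X ⟶ Red.Ga S),
      Red.gaFn y = (ε : Γ(X.left, ⊤)) * Red.gaFn x →
        (toUnit X ≫ n c) * (x ≫ v b) * (toUnit X ≫ n c)⁻¹ = y ≫ v (D.P.reflectionPerm c b)) :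
    ∃ σ : D.idx → D.idx → ℤ, Chv D v vd σ := by
  choose σ hσ hconj using hSC
  have hm := fun c => (hvd c).1
  refine ⟨σ, hv, hm, fun c => ?_, hσ, fun c b X x => ?_⟩
  · rw [← havc]
    exact Rule.of_pts (hvd c).2
  · have h := hconj c b X (gaPt X x) (gaPt X ((σ c b : Γ(X.left, ⊤)) * x))
      (by rw [gaFn_gaPt, gaFn_gaPt])
    rw [hn, toUnit_N e₁ he₁] at h
    exact h

variable {R : Type u} [CommRing R] {s : Spec (CommRingCat.of R) ⟶ S} 

section chart

variable (ch : Chart G s)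

/-- a root homomorphism in a chart -/
noncomputable def Wp (w : Red.Ga S ⟶ G) (B : Type u) [CommRing B] [Algebra R B] (y : B) : Pt R ch.A B :=
  (ch.pts B).symm (V w (tB s B) (fnOf s y))

lemma pts_Wp (w : Red.Ga S ⟶ G) (B : Type u) [CommRing B] [Algebra R B] (y : B) :
    ch.pts B (Wp ch w B y) = V w (tB s B) (fnOf s y) := MulEquiv.apply_symm_apply _ _

lemma Wp_nat (w : Red.Ga S ⟶ G) {B C : Type u} [CommRing B] [Algebra R B] [CommRing C] [Algebra R C]
    (φ : B →ₐ[R] C) (y : B) : Pt.map φ (Wp ch w B y) = Wp ch w C (φ y) := by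
  rw [Wp, ch.pts_symm_nat, comp_V, appTop_fnOf, Wp]

lemma Wp_zero (w : Red.Ga S ⟶ G) [IsMonHom w] (B : Type u) [CommRing B] [Algebra R B] :
    Wp ch w B 0 = 1 := by
  have h : fnOf s (0 : B) = 0 := map_zero (fnHom s)
  rw [Wp, h, V_zero, map_one]

lemma Wp_eq_uu (D : Red.SplitRed G) (c : D.idx) (B : Type u) [CommRing B] [Algebra R B] (y : B) :
    Wp ch (D.u c) B y = (ch.datum D).uu c B y := by
  apply (ch.pts B).injective
  rw [pts_Wp, ch.pts_uu]
  rfl

/-- the rule in a chart -/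
lemma rule_Wp (D : Red.SplitRed G) (c : D.idx) {v vd : Red.Ga S ⟶ G}
    (h : Rule v vd ((Red.DSmap S (D.P.coroot c).toAddMonoidHom ≫ D.split.inv.hom.hom) ≫ D.i))
    {B : Type u} [CommRing B] [Algebra R B] (x y : B) (z : Bˣ)
    (hz : (z : B) = 1 + x * y) :
    Wp ch v B x * Wp ch vd B y = Wp ch vd B ((z⁻¹ : Bˣ) * y) *
      (ch.datum D).i B (TPt.cow (D.P.coroot c) z) * Wp ch v B ((z⁻¹ : Bˣ) * x) := by
  let ζ : Γ((tB s B).left, ⊤)ˣ := Units.map (fnHom (B := B) s).toMonoidHom z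
  have hζ : (ζ : Γ((tB s B).left, ⊤)) = fnHom s (z : B) := rfl
  have hζ' : ((ζ⁻¹ : Γ((tB s B).left, ⊤)ˣ) : Γ((tB s B).left, ⊤)) = fnHom s ((z⁻¹ : Bˣ) : B) := rfl
  apply (ch.pts B).injective
  have e1 := h (tB s B) (fnHom s x) (fnHom s y) ζ
    (by rw [hζ, hz, map_add, map_one, map_mul])
  rw [hζ', ← map_mul, ← map_mul] at e1
  rw [map_mul, map_mul, map_mul, pts_Wp, pts_Wp, pts_Wp, pts_Wp]
  refine e1.trans ?_
  congr 2
  rw [H, Category.assoc]
  exact pt_av D ch (D.P.coroot c) (gmFn_gmPt _ _)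

variable {D : Red.SplitRed G} {v vd : D.idx → (Red.Ga S ⟶ G)} {σ : D.idx → D.idx → ℤ}
  (H : Chv D v vd σ) (Δ : D.P.Base)

include Δ in
/-- The dual root homomorphism in a chart. -/
theorem exists_dual_chart (c : D.idx) : ∃ κ : Rˣ,
    Rel (D := ch.datum (withU D v H.root)) D.P c κ ∧
    ∀ (B : Type u) [CommRing B] [Algebra R B] (y : B), Wp ch (vd c) B y =
      (ch.datum (withU D v H.root)).uu (D.P.reflectionPerm c c) B (algebraMap R B κ * y) := by
  let D' := withU D v H.root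
  have hsm := ch.smooth D'.reductive
  have hdom : ∀ (K : Type u) [Field K] [Algebra R K], IsDomain (K ⊗[R] ch.A) :=
    fun K _ _ => ch.geomDom D'.reductive K
  have hG := ch.good D'
  obtain ⟨n, hn⟩ := PinModelOf.exists_acts D' ch c
  obtain ⟨κ, hκ⟩ := exists_rel (D := ch.datum D') hdom hG D.P (fun _ => rfl) D.pairing_eq Δ c
    ⟨n, fun t => PinModelOf.conj_of_acts (D := ch.datum D') D.P (fun _ => rfl) D.pairing_eq hn t⟩
  refine ⟨κ, hκ, fun B _ _ y => ?_⟩
  have := H.mvd c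
  refine dual_unique_pt (R := R) (A := ch.A) (fun B _ _ x => (ch.datum D').uu c B x)
    (fun B _ _ x => Wp ch (vd c) B x)
    (fun B _ _ x => (ch.datum D').uu (D.P.reflectionPerm c c) B (algebraMap R B κ * x))
    (fun B _ _ z => (ch.datum D').i B (TPt.cow (D.P.coroot c) z)) ?_ ?_ ?_ ?_ ?_ ?_ ?_ B y
  · intro B C _ _ _ _ φ x
    exact (ch.datum D').uu_nat c φ x
  · intro B C _ _ _ _ φ x
    exact Wp_nat ch _ φ x
  · intro B C _ _ _ _ φ x
    rw [(ch.datum D').uu_nat, map_mul, AlgHom.commutes]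
  · intro B _ _
    exact Wp_zero ch _ B
  · intro B _ _
    rw [MulZeroClass.mul_zero]
    exact (ch.datum D').uu_zero _
  · intro B _ _ x y z hz
    have h := rule_Wp ch D' c (H.rule c) x y z hz
    have e : ∀ x : B, Wp ch (v c) B x = (ch.datum D').uu c B x := fun x => Wp_eq_uu ch D' c B x
    rw [e, e] at h
    exact h
  · intro B _ _ x y z hz
    exact hκ x y z hz

/-- Rescaling a datum at `-a, -b`. -/
theorem kit_aux {R A : Type u} [CommRing R] [CommRing A] [Algebra R A] [PtGrp R A] {D : Datum R A}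
    (P : RootPairing D.idx ℤ D.M (Module.Dual ℤ D.M)) {a b : D.idx}
    (hab : b ≠ P.reflectionPerm a a) (hba : a ≠ P.reflectionPerm b b)
    (haa : a ≠ P.reflectionPerm a a) (hbb : b ≠ P.reflectionPerm b b)
    (hne : a ≠ b) {κ₁ κ₂ : Rˣ} (h₁ : Rel P a κ₁) (h₂ : Rel P b κ₂) :
    ∃ κ : D.idx → Rˣ, (∀ c, c ≠ P.reflectionPerm a a → c ≠ P.reflectionPerm b b → κ c = 1) ∧
      K213.RkOneR.Rank1 (D := D.rescale κ) P a ∧ K213.RkOneR.Rank1 (D := D.rescale κ) P b ∧
      (∀ (B : Type u) [CommRing B] [Algebra R B],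
        K213.RkOneR.nn (D := D.rescale κ) P a B = nn P a κ₁ B) ∧
      (∀ (B : Type u) [CommRing B] [Algebra R B],
        K213.RkOneR.nn (D := D.rescale κ) P b B = nn P b κ₂ B) := by
  classical
  let κ : D.idx → Rˣ := fun d => if d = P.reflectionPerm a a then κ₁ else
    if d = P.reflectionPerm b b then κ₂ else 1
  have hne' : P.reflectionPerm b b ≠ P.reflectionPerm a a := by
    intro h
    apply hne
    apply P.root.injective
    have h1 : ∀ c, P.root (P.reflectionPerm c c) = - P.root c := by simp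
    have h2 := congrArg P.root h
    rw [h1, h1, neg_inj] at h2
    exact h2.symm
  have k1 : κ a = 1 := (if_neg haa).trans (if_neg hba)
  have k2 : κ b = 1 := (if_neg hab).trans (if_neg hbb)
  have k3 : κ (P.reflectionPerm a a) = κ₁ := if_pos rfl
  have k4 : κ (P.reflectionPerm b b) = κ₂ := (if_neg hne').trans (if_pos rfl)
  refine ⟨κ, fun c h1 h2 => (if_neg h1).trans (if_neg h2), ?_, ?_, ?_, ?_⟩
  · intro B _ _ x y z hz
    change D.uu a B (algebraMap R B (κ a) * x) *
      D.uu (P.reflectionPerm a a) B (algebraMap R B (κ (P.reflectionPerm a a)) * y) =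
      D.uu (P.reflectionPerm a a) B (algebraMap R B (κ (P.reflectionPerm a a)) *
        ((z⁻¹ : Bˣ) * y)) * D.i B (TPt.cow (P.coroot a) z) *
        D.uu a B (algebraMap R B (κ a) * ((z⁻¹ : Bˣ) * x))
    rw [k1, k3, Units.val_one, map_one, _root_.one_mul, _root_.one_mul]
    exact h₁ x y z hz
  · intro B _ _ x y z hz
    change D.uu b B (algebraMap R B (κ b) * x) *
      D.uu (P.reflectionPerm b b) B (algebraMap R B (κ (P.reflectionPerm b b)) * y) =
      D.uu (P.reflectionPerm b b) B (algebraMap R B (κ (P.reflectionPerm b b)) *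
        ((z⁻¹ : Bˣ) * y)) * D.i B (TPt.cow (P.coroot b) z) *
        D.uu b B (algebraMap R B (κ b) * ((z⁻¹ : Bˣ) * x))
    rw [k2, k4, Units.val_one, map_one, _root_.one_mul, _root_.one_mul]
    exact h₂ x y z hz
  · intro B _ _
    change D.uu a B (algebraMap R B (κ a) * 1) *
      D.uu (P.reflectionPerm a a) B (algebraMap R B (κ (P.reflectionPerm a a)) * (-1)) *
      D.uu a B (algebraMap R B (κ a) * 1) = _
    rw [k1, k3, Units.val_one, map_one, _root_.one_mul]
    rfl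
  · intro B _ _
    change D.uu b B (algebraMap R B (κ b) * 1) *
      D.uu (P.reflectionPerm b b) B (algebraMap R B (κ (P.reflectionPerm b b)) * (-1)) *
      D.uu b B (algebraMap R B (κ b) * 1) = _
    rw [k2, k4, Units.val_one, map_one, _root_.one_mul]
    rfl

/-- Weyl elements in a chart -/
lemma pts_nn (c : D.idx) {κ : Rˣ} (hw : ∀ (B : Type u) [CommRing B] [Algebra R B] (y : B),
    Wp ch (vd c) B y =
      (ch.datum (withU D v H.root)).uu (D.P.reflectionPerm c c) B (algebraMap R B κ * y))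
    (B : Type u) [CommRing B] [Algebra R B] :
    ch.pts B (nn (D := ch.datum (withU D v H.root)) D.P c κ B) = N (v c) (vd c) (tB s B) := by
  let D' := withU D v H.root
  have e : ∀ x : B, Wp ch (v c) B x = (ch.datum D').uu c B x := fun x => Wp_eq_uu ch D' c B x
  have h1 : fnOf s (1 : B) = 1 := map_one (fnHom s)
  have h2 : fnOf s (-1 : B) = -1 := by
    change fnHom s (-1 : B) = -1
    rw [map_neg, map_one]
  have h3 : nn (D := ch.datum (withU D v H.root)) D.P c κ B =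
      Wp ch (v c) B 1 * Wp ch (vd c) B (-1) * Wp ch (v c) B 1 :=
    congrArg₂ (· * ·) (congrArg₂ (· * ·) (e 1).symm (hw B (-1)).symm) (e 1).symm
  rw [h3, map_mul, map_mul, pts_Wp, pts_Wp, h1, h2, N]

include Δ in
/-- A rescaling of the datum of a chart, normalised at two roots. -/
theorem exists_kit {a b : D.idx} (hab : b ≠ D.P.reflectionPerm a a) (hba : a ≠ D.P.reflectionPerm b b)
    (haa : a ≠ D.P.reflectionPerm a a) (hbb : b ≠ D.P.reflectionPerm b b)
    (hne : a ≠ b) :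
    ∃ κ : (ch.datum (withU D v H.root)).idx → Rˣ,
      (∀ c, c ≠ D.P.reflectionPerm a a → c ≠ D.P.reflectionPerm b b → κ c = 1) ∧
      K213.RkOneR.Rank1 (D := (ch.datum (withU D v H.root)).rescale κ) D.P a ∧
      K213.RkOneR.Rank1 (D := (ch.datum (withU D v H.root)).rescale κ) D.P b ∧
      (∀ (B : Type u) [CommRing B] [Algebra R B],
        ch.pts B (K213.RkOneR.nn (D := (ch.datum (withU D v H.root)).rescale κ) D.P a B) =
          N (v a) (vd a) (tB s B)) ∧
      (∀ (B : Type u) [CommRing B] [Algebra R B],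
        ch.pts B (K213.RkOneR.nn (D := (ch.datum (withU D v H.root)).rescale κ) D.P b B) =
          N (v b) (vd b) (tB s B)) := by
  obtain ⟨κ₁, hr₁, hw₁⟩ := exists_dual_chart ch H Δ a
  obtain ⟨κ₂, hr₂, hw₂⟩ := exists_dual_chart ch H Δ b
  obtain ⟨κ, h1, h2, h3, h4, h5⟩ := kit_aux (D := ch.datum (withU D v H.root)) D.P hab hba haa hbb
    hne hr₁ hr₂
  refine ⟨κ, h1, h2, h3, fun B _ _ => ?_, fun B _ _ => ?_⟩
  · rw [h4 B]
    exact pts_nn ch H a hw₁ B
  · rw [h5 B]
    exact pts_nn ch H b hw₂ B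

end chart

end K214.ChevDual
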