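import Groth.Agent.Red.K214.ZTrans

/-!
# Chevalley systems on points: transport along base change, isomorphisms and equivalences of root data
-/

set_option autoImplicit false
universe u
open CategoryTheory MonoidalCategory CartesianMonoidalCategory MonObj GrpObj AlgebraicGeometry Limits

namespace K214.ChevSys

open Groth.Agent.Sga3B Groth.Agent.Sga3B.DSPts Groth.Agent.Sga3B.SplitBc264
  Groth.Agent.Sga3B.GaPts Groth.Agent.Sga3.H811.Pts K214.FnForm K214.ZTrans

/-- index equivalences are compatible with the canonical pairing -/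
lemma coroot_comp_weightMap {I J M N M₂ N₂ : Type} [AddCommGroup M] [AddCommGroup N]
    [AddCommGroup M₂] [AddCommGroup N₂] {P : RootPairing I ℤ M N} {Q : RootPairing J ℤ M₂ N₂}
    (h : RootPairing.Equiv P Q) (c : I) (m : M) :
    Q.toLinearMap (h.weightMap m) (Q.coroot (h.indexEquiv c)) = P.toLinearMap m (P.coroot c) := by
  have h1 := RootPairing.Hom.weight_coweight_transpose_apply P Q (Q.coroot (h.indexEquiv c)) h.toHom
  have h2 := congrArg (fun z => z m) h1
  rw [RootPairing.Hom.coroot_coweightMap_apply, Equiv.symm_apply_apply] at h2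
  exact h2

/-- index equivalences commute with reflections -/
lemma indexEquiv_reflectionPerm {I J M N M₂ N₂ : Type} [AddCommGroup M] [AddCommGroup N]
    [AddCommGroup M₂] [AddCommGroup N₂] {P : RootPairing I ℤ M N} {Q : RootPairing J ℤ M₂ N₂}
    (h : RootPairing.Equiv P Q) (c b : I) :
    h.indexEquiv (P.reflectionPerm c b) = Q.reflectionPerm (h.indexEquiv c) (h.indexEquiv b) := by
  apply Q.root.injective
  rw [Q.root_reflectionPerm, ← RootPairing.Hom.root_weightMap_apply,
    ← RootPairing.Hom.root_weightMap_apply, P.root_reflectionPerm, RootPairing.reflection_apply,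
    RootPairing.reflection_apply, map_sub, map_smul, RootPairing.Hom.root_weightMap_apply,
    RootPairing.Hom.root_weightMap_apply]
  congr 2
  change P.toLinearMap (P.root b) (P.coroot c) = Q.toLinearMap (Q.root (h.indexEquiv b))
    (Q.coroot (h.indexEquiv c))
  rw [← coroot_comp_weightMap h, RootPairing.Hom.root_weightMap_apply]

section

variable {S : Scheme.{u}} {G T : Over S} [GrpObj G] [GrpObj T] {I M : Type} [AddCommGroup M]

/-- the coroot of a splitting composed with the torus -/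
noncomputable def av (i : T ⟶ G) (e : Grp.mk T ≅ Grp.mk (Red.DS S M))
    (P : RootPairing I ℤ M (Module.Dual ℤ M)) (a : I) : Red.Gm S ⟶ G :=
  (Red.DSmap S (P.coroot a).toAddMonoidHom ≫ e.inv.hom.hom) ≫ i

/-- A Chevalley system of a splitting, on points -/
structure Chev (i : T ⟶ G) (e : Grp.mk T ≅ Grp.mk (Red.DS S M))
    (P : RootPairing I ℤ M (Module.Dual ℤ M)) (v vd : I → (Red.Ga S ⟶ G)) : Prop where
  rootHom : ∀ c, Red.IsRootHom i (e.hom.hom.hom ≫ Red.chi S (P.root c)) (v c)
  isMonHom : ∀ c, IsMonHom (vd c)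
  rule : ∀ c, Rule (v c) (vd c) (av i e P c)
  conj : ∀ c b, ∃ ε : ℤ, (ε = 1 ∨ ε = -1) ∧ ∀ (X : Over S) (x : Γ(X.left, ⊤)),
    N (v c) (vd c) X * V (v b) X x * (N (v c) (vd c) X)⁻¹ =
      V (v (P.reflectionPerm c b)) X ((ε : Γ(X.left, ⊤)) * x)

omit [GrpObj G] in
lemma H_eq (i : T ⟶ G) (e : Grp.mk T ≅ Grp.mk (Red.DS S M))
    (P : RootPairing I ℤ M (Module.Dual ℤ M)) (a : I) (X : Over S) (z : Γ(X.left, ⊤)ˣ) :
    H (av i e P a) X z = dsEquiv X M (((Units.coeHom _).comp (zpowersHom _ z)).comp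
      (AddMonoidHom.toMultiplicative (P.coroot a).toAddMonoidHom)) ≫ e.inv.hom.hom ≫ i := by
  have h1 : dsChar (gmPt X z) = (Units.coeHom _).comp (zpowersHom _ z) := by
    apply MonoidHom.ext_mint
    rw [← Groth.Agent.Sga3B.GaPts.gmFn_eq, gmFn_gmPt]
    simp
  rw [← h1, H, av, ← dsEquiv_dsChar (gmPt X z), Category.assoc, ← Category.assoc, dsEquiv_DSmap,
    dsChar_dsEquiv]

/-- transport of Chevalley systems -/
theorem Chev.of_equiv {J L : Type} [AddCommGroup L] {Q : RootPairing J ℤ L (Module.Dual ℤ L)}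
    {P : RootPairing I ℤ M (Module.Dual ℤ M)} (hP : P.toLinearMap = Module.Dual.eval ℤ M)
    (hQ : Q.toLinearMap = Module.Dual.eval ℤ L) (h : RootPairing.Equiv P Q) {i : T ⟶ G}
    {e : Grp.mk T ≅ Grp.mk (Red.DS S M)} {e' : Grp.mk T ≅ Grp.mk (Red.DS S L)}
    (he : e'.inv.hom.hom = Red.DSmap S h.weightMap.toAddMonoidHom ≫ e.inv.hom.hom)
    {v vd : J → (Red.Ga S ⟶ G)} (hv : Chev i e' Q v vd) :
    Chev i e P (fun a => v (h.indexEquiv a)) (fun a => vd (h.indexEquiv a)) where
  rootHom a := by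
    have h1 := hv.rootHom (h.indexEquiv a)
    have h2 : e'.hom.hom.hom ≫ Red.chi S (Q.root (h.indexEquiv a)) =
        e.hom.hom.hom ≫ Red.chi S (P.root a) := by
      have h3 : e.hom.hom.hom = e'.hom.hom.hom ≫ Red.DSmap S h.weightMap.toAddMonoidHom := by
        have h4 : e'.hom.hom.hom ≫ (Red.DSmap S h.weightMap.toAddMonoidHom ≫ e.inv.hom.hom) = 𝟙 _ := by
          rw [← he]
          exact map_hom_inv e'
        have h5 := congrArg (fun k => k ≫ e.hom.hom.hom) h4
        simp only [Category.assoc] at h5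
        rw [map_inv_hom, Category.comp_id, Category.id_comp] at h5
        exact h5.symm
      rw [h3, Category.assoc, PinTransport.DSmap_chi]
      congr 2
      exact (RootPairing.Hom.root_weightMap_apply P Q a h.toHom).symm
    rw [← h2]
    exact h1
  isMonHom a := hv.isMonHom _
  rule a := by
    have h1 : av i e P a = av i e' Q (h.indexEquiv a) := by
      rw [av, av, he, ← Category.assoc (Red.DSmap S _), PinTransport.DSmap_comp]
      congr 3
      ext m
      have h1 := coroot_comp_weightMap h a m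
      rw [hP, hQ] at h1
      exact h1.symm
    rw [h1]
    exact hv.rule _
  conj c b := by
    obtain ⟨ε, hε, h1⟩ := hv.conj (h.indexEquiv c) (h.indexEquiv b)
    refine ⟨ε, hε, fun X x => ?_⟩
    rw [indexEquiv_reflectionPerm]
    exact h1 X x

end

section bc

variable {S Z : Scheme.{u}} (f : S ⟶ Z) {G₀ T₀ : Over Z} [GrpObj G₀] [GrpObj T₀] {G T : Over S}
  [GrpObj G] [GrpObj T] (F : Red.bc f G₀ ≅ G) [IsMonHom F.hom] {I M : Type} [AddCommGroup M]
  {P : RootPairing I ℤ M (Module.Dual ℤ M)} {i₀ : T₀ ⟶ G₀} {i : T ⟶ G}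
  {e₀ : Grp.mk T₀ ≅ Grp.mk (Red.DS Z M)} {e : Grp.mk T ≅ Grp.mk (Red.DS S M)}
  (hF : (Over.pullback f).map i₀ ≫ F.hom =
    (BcIso.bcMapIso f e₀ ≪≫ TorusAlgClosed.dsBcIso f M).hom.hom.hom ≫ e.inv.hom.hom ≫ i)

include hF in
/-- **Transport of Chevalley systems** -/
theorem Chev.of_bc {v vd : I → (Red.Ga Z ⟶ G₀)} (hv : Chev i₀ e₀ P v vd) :
    Chev i e P (fun a => tr f F (v a)) (fun a => tr f F (vd a)) where
  rootHom a := isRootHom_tr f F e₀ e hF (hv.rootHom a)
  isMonHom a := by
    have := hv.isMonHom a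
    infer_instance
  rule a := by
    intro X x y z hz
    have h1 := congrArg (Φ f F X) (hv.rule a ((Over.map f).obj X) x y z hz)
    rw [map_mul, map_mul, map_mul, ← V_tr, ← V_tr, ← V_tr, ← V_tr] at h1
    refine h1.trans ?_
    congr 2
    rw [H_eq, H_eq, tr_torus f F e₀ e hF X]
    rfl
  conj c b := by
    obtain ⟨ε, hε, h1⟩ := hv.conj c b
    refine ⟨ε, hε, fun X x => ?_⟩
    have h2 := congrArg (Φ f F X) (h1 ((Over.map f).obj X) x)
    rw [map_mul, map_mul, map_inv, N, map_mul, map_mul, ← V_tr, ← V_tr, ← V_tr, ← V_tr] at h2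
    exact h2

end bc

end K214.ChevSys
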