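import Groth.Agent.Red.K214.FnForm
import Groth.Agent.Sga3B.ChartEx
import Mathlib.Algebra.Polynomial.Laurent

/-!
# Uniqueness of the dual root homomorphism

If `v(x) w(y) = w(y/z) h(z) v(x/z)` for `z = 1 + xy` invertible, `G` affine, then `w` is determined by `v`, `h`.
-/

set_option autoImplicit false
universe u
open CategoryTheory MonoidalCategory CartesianMonoidalCategory MonObj GrpObj AlgebraicGeometry Limits
open Polynomial

namespace K214.DualUniq

open Groth.Agent.Sga3B Groth.Agent.Sga3B.Cell Groth.Agent.Sga3B.PinMod Groth.Agent.Sga3B.DSPts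
  Groth.Agent.Sga3B.GaPts Groth.Agent.Sga3.H811.Pts K214.FnForm

/-- A polynomial in `T` which is a polynomial in `T⁻¹` is constant. -/
lemma eq_C_of_laurent {R : Type u} [CommRing R] (p q : R[X])
    (h : Polynomial.aeval (LaurentPolynomial.T 1 : LaurentPolynomial R) p =
      Polynomial.aeval (LaurentPolynomial.T (-1) : LaurentPolynomial R) q) : p = C (p.coeff 0) := by
  have h1 : (Polynomial.aeval (LaurentPolynomial.T 1 : LaurentPolynomial R)) =
      (toLaurentAlg : R[X] →ₐ[R] LaurentPolynomial R) := by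
    apply Polynomial.algHom_ext
    rw [Polynomial.aeval_X, toLaurentAlg_apply, toLaurent_X]
  have h2 : (Polynomial.aeval (LaurentPolynomial.T (-1) : LaurentPolynomial R)) =
      ((LaurentPolynomial.invert (R := R)).toAlgHom).comp
        (toLaurentAlg : R[X] →ₐ[R] LaurentPolynomial R) := by
    apply Polynomial.algHom_ext
    rw [Polynomial.aeval_X, AlgHom.comp_apply, toLaurentAlg_apply, toLaurent_X]
    exact (LaurentPolynomial.invert_T 1).symm
  rw [h1, h2, AlgHom.comp_apply, toLaurentAlg_apply, toLaurentAlg_apply] at h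
  have h3 : ∀ (p : R[X]) (n : ℕ), (toLaurent p).coeff (n : ℤ) = p.coeff n := by
    intro p n
    rw [LaurentPolynomial.coeff_toLaurent]
    exact Finsupp.mapDomain_apply Nat.cast_injective _ n
  have h4 : ∀ (p : R[X]) (n : ℕ), 0 < n → (toLaurent p).coeff (-n : ℤ) = 0 := by
    intro p n hn
    rw [LaurentPolynomial.coeff_toLaurent]
    refine Finsupp.mapDomain_of_notMem_range _ _ ?_
    rintro ⟨m, hm⟩
    change (m : ℤ) = -n at hm
    omega
  ext n
  rcases Nat.eq_zero_or_pos n with rfl | hn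
  · rw [coeff_C_zero]
  · rw [coeff_C, if_neg hn.ne', ← h3, h]
    change (LaurentPolynomial.invert (toLaurent q)).coeff n = 0
    rw [LaurentPolynomial.invert_apply, h4 _ _ hn]

/-- Equality of morphisms can be tested on points of the form `tB s R`. -/
lemma hom_ext_tB {S : Scheme.{u}} {X Y : Over S} (a b : X ⟶ Y)
    (h : ∀ (R : Type u) [CommRing R] (s : Spec (CommRingCat.of R) ⟶ S) (y : tB s R ⟶ X),
      y ≫ a = y ≫ b) : a = b := by
  have h0 : ∀ (B : CommRingCat.{u}) (v : Spec B ⟶ X.left), v ≫ a.left = v ≫ b.left := by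
    intro B v
    have hw : v ≫ X.hom = (tB (R := B) (v ≫ X.hom) B).hom := by
      change _ = Spec.map (CommRingCat.ofHom (algebraMap B B)) ≫ _
      have h1 : Spec.map (CommRingCat.ofHom (algebraMap B B)) = 𝟙 _ := Spec.map_id B
      rw [h1]
      exact (Category.id_comp _).symm
    exact congrArg CommaMorphism.left (h B (v ≫ X.hom) (Over.homMk v hw))
  ext1
  exact X.left.affineOpenCover.openCover.hom_ext _ _ fun x => h0 _ _

lemma grp_aux {Γ : Type*} [Group Γ] {V W W' W2 W2' H V2 : Γ} (e1 : V * W = W2 * H * V2)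
    (e2 : V * W' = W2' * H * V2) : W2' * W2⁻¹ = V * (W' * W⁻¹) * V⁻¹ := by
  have h1 : W2 = V * W * V2⁻¹ * H⁻¹ := by rw [e1]; group
  have h2 : W2' = V * W' * V2⁻¹ * H⁻¹ := by rw [e2]; group
  rw [h1, h2]; group

variable {S : Scheme.{u}} {G : Over S}

/-- Two homomorphisms `𝔾_a ⟶ G` agree if they agree on `R`-points for all `Spec R ⟶ S`. -/
lemma ga_ext {w w' : Red.Ga S ⟶ G} (h : ∀ (R : Type u) [CommRing R] (s : Spec (CommRingCat.of R) ⟶ S)
    (y : R), V w (tB s R) (fnOf s y) = V w' (tB s R) (fnOf s y)) : w = w' := by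
  apply hom_ext_tB
  intro R _ s y
  have h1 : ∃ r : R, fnOf s r = Red.gaFn y := by
    refine ⟨(Scheme.ΓSpecIso (CommRingCat.of R)).hom (Red.gaFn y), ?_⟩
    change ((Scheme.ΓSpecIso (CommRingCat.of R)).hom ≫ (Scheme.ΓSpecIso (CommRingCat.of R)).inv) _ = _
    rw [Iso.hom_inv_id]
    rfl
  obtain ⟨r, hr⟩ := h1
  rw [← V_gaFn, ← V_gaFn, ← hr, h]

variable [GrpObj G]

/-- **Uniqueness of the dual.** -/
theorem dual_unique [IsAffineHom G.hom] {v w w' : Red.Ga S ⟶ G} [IsMonHom w] [IsMonHom w']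
    {h : Red.Gm S ⟶ G} (h1 : Rule v w h) (h2 : Rule v w' h) : w = w' := by
  apply ga_ext
  intro R _ s y
  obtain ⟨c⟩ := exists_chart G s
  let δ : ∀ (B : Type u) [CommRing B] [Algebra R B], B → (tB s B ⟶ G) := fun B _ _ y =>
    V w' (tB s B) (fnOf s y) * (V w (tB s B) (fnOf s y))⁻¹
  have hnat : ∀ {B C : Type u} [CommRing B] [Algebra R B] [CommRing C] [Algebra R C]
      (φ : B →ₐ[R] C) (y : B), tMap s φ ≫ δ B y = δ C (φ y) := by
    intro B C _ _ _ _ φ y
    simp only [δ]
    rw [MonObj.comp_mul, GrpObj.comp_inv, comp_V, comp_V, appTop_fnOf]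
  have hrel : ∀ {B : Type u} [CommRing B] [Algebra R B] (x y : B) (z : Bˣ) (hz : (z : B) = 1 + x * y),
      δ B ((z⁻¹ : Bˣ) * y) = V v (tB s B) (fnOf s x) * δ B y * (V v (tB s B) (fnOf s x))⁻¹ := by
    intro B _ _ x y z hz
    simp only [δ]
    let f : B →+* Γ((tB s B).left, ⊤) := (Scheme.ΓSpecIso (CommRingCat.of B)).inv.hom
    have e1 := h1 (tB s B) (fnOf s x) (fnOf s y) (Units.map (f : B →* _) z)
      (by change f z = 1 + f x * f y; rw [hz]; simp)
    have e2 := h2 (tB s B) (fnOf s x) (fnOf s y) (Units.map (f : B →* _) z)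
      (by change f z = 1 + f x * f y; rw [hz]; simp)
    have e3 : ((Units.map (f : B →* Γ((tB s B).left, ⊤)) z)⁻¹ : Γ((tB s B).left, ⊤)ˣ) * fnOf s y =
        fnOf s ((z⁻¹ : Bˣ) * y) := by
      rw [← map_inv]
      change f _ * f y = f _
      rw [map_mul]
    have e4 : ((Units.map (f : B →* Γ((tB s B).left, ⊤)) z)⁻¹ : Γ((tB s B).left, ⊤)ˣ) * fnOf s x =
        fnOf s ((z⁻¹ : Bˣ) * x) := by
      rw [← map_inv]
      change f _ * f x = f _
      rw [map_mul]
    rw [e3, e4] at e1 e2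
    exact grp_aux e1 e2
  have hone : ∀ {B : Type u} [CommRing B] [Algebra R B] (t : Bˣ), δ B t =
      V v (tB s B) (fnOf s ((t⁻¹ : Bˣ) - 1)) * δ B 1 * (V v (tB s B) (fnOf s ((t⁻¹ : Bˣ) - 1)))⁻¹ := by
    intro B _ _ t
    have := hrel (B := B) ((t⁻¹ : Bˣ) - 1) 1 t⁻¹ (by ring)
    rw [_root_.inv_inv, _root_.mul_one] at this
    exact this
  have hzero : ∀ {B : Type u} [CommRing B] [Algebra R B], δ B 0 = 1 := by
    intro B _ _
    have : fnOf s (0 : B) = 0 := map_zero (Scheme.ΓSpecIso (CommRingCat.of B)).inv.hom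
    simp only [δ]
    rw [this, V_zero, V_zero, _root_.inv_one, _root_.mul_one]
  -- the two polynomial families
  let gp : Pt R c.A R[X] := (c.pts R[X]).symm (δ R[X] X)
  let gq : Pt R c.A R[X] := (c.pts R[X]).symm (V v (tB s R[X]) (fnOf s (X - 1)) * δ R[X] 1 *
    (V v (tB s R[X]) (fnOf s (X - 1)))⁻¹)
  let L := LaurentPolynomial R
  have hpq : Pt.map (Polynomial.aeval (LaurentPolynomial.T 1 : L)) gp =
      Pt.map (Polynomial.aeval (LaurentPolynomial.T (-1) : L)) gq := by
    rw [c.pts_symm_nat, c.pts_symm_nat]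
    congr 1
    rw [hnat, MonObj.comp_mul, MonObj.comp_mul, GrpObj.comp_inv, comp_V, appTop_fnOf, hnat,
      map_sub, map_one, Polynomial.aeval_X, Polynomial.aeval_X]
    let t : Lˣ := ⟨LaurentPolynomial.T 1, LaurentPolynomial.T (-1),
      by rw [← LaurentPolynomial.T_add]; exact LaurentPolynomial.T_zero,
      by rw [← LaurentPolynomial.T_add]; exact LaurentPolynomial.T_zero⟩
    exact hone (B := L) t
  have hconst : ∀ f : c.A, gp.hom f = C ((gp.hom f).coeff 0) := fun f =>
    eq_C_of_laurent _ (gq.hom f) (congrArg (fun k : Pt R c.A L => k.hom f) hpq)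
  have h3 : Pt.map (Polynomial.aeval y : R[X] →ₐ[R] R) gp = Pt.map (Polynomial.aeval (0 : R)) gp := by
    apply Pt.ext
    intro f
    rw [Pt.map_hom_apply, Pt.map_hom_apply, hconst]
    simp
  rw [c.pts_symm_nat, c.pts_symm_nat, EmbeddingLike.apply_eq_iff_eq, hnat, hnat,
    Polynomial.aeval_X, Polynomial.aeval_X, hzero] at h3
  exact (mul_inv_eq_one.mp h3).symm

end K214.DualUniq
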