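import Groth.Agent.Red.K214.DualUniq

/-!
# Uniqueness of the dual root homomorphism, on points of an affine group functor
-/

set_option autoImplicit false
universe u
open Polynomial

namespace K214.DualUniqPt

open Groth.Agent.Sga3B.Cell K214.DualUniq

variable {R A : Type u} [CommRing R] [CommRing A] [Algebra R A] [PtGrp R A]

/-- **Uniqueness of the dual**, on points. -/
theorem dual_unique_pt
    (V W W' : ∀ (B : Type u) [CommRing B] [Algebra R B], B → Pt R A B)
    (T : ∀ (B : Type u) [CommRing B] [Algebra R B], Bˣ → Pt R A B)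
    (hV : ∀ {B C : Type u} [CommRing B] [Algebra R B] [CommRing C] [Algebra R C] (φ : B →ₐ[R] C)
      (x : B), Pt.map φ (V B x) = V C (φ x))
    (hW : ∀ {B C : Type u} [CommRing B] [Algebra R B] [CommRing C] [Algebra R C] (φ : B →ₐ[R] C)
      (x : B), Pt.map φ (W B x) = W C (φ x))
    (hW' : ∀ {B C : Type u} [CommRing B] [Algebra R B] [CommRing C] [Algebra R C] (φ : B →ₐ[R] C)
      (x : B), Pt.map φ (W' B x) = W' C (φ x))
    (h0 : ∀ (B : Type u) [CommRing B] [Algebra R B], W B 0 = 1)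
    (h0' : ∀ (B : Type u) [CommRing B] [Algebra R B], W' B 0 = 1)
    (h1 : ∀ {B : Type u} [CommRing B] [Algebra R B] (x y : B) (z : Bˣ), (z : B) = 1 + x * y →
      V B x * W B y = W B ((z⁻¹ : Bˣ) * y) * T B z * V B ((z⁻¹ : Bˣ) * x))
    (h2 : ∀ {B : Type u} [CommRing B] [Algebra R B] (x y : B) (z : Bˣ), (z : B) = 1 + x * y →
      V B x * W' B y = W' B ((z⁻¹ : Bˣ) * y) * T B z * V B ((z⁻¹ : Bˣ) * x))
    (B : Type u) [CommRing B] [Algebra R B] (y : B) : W B y = W' B y := by
  let δ : ∀ (B : Type u) [CommRing B] [Algebra R B], B → Pt R A B := fun B _ _ y =>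
    W' B y * (W B y)⁻¹
  have hnat : ∀ {B C : Type u} [CommRing B] [Algebra R B] [CommRing C] [Algebra R C]
      (φ : B →ₐ[R] C) (y : B), Pt.map φ (δ B y) = δ C (φ y) := by
    intro B C _ _ _ _ φ y
    simp only [δ]
    rw [Pt.map_mul, Pt.map_inv, hW, hW']
  have hone : ∀ {B : Type u} [CommRing B] [Algebra R B] (t : Bˣ), δ B t =
      V B ((t⁻¹ : Bˣ) - 1) * δ B 1 * (V B ((t⁻¹ : Bˣ) - 1))⁻¹ := by
    intro B _ _ t
    have e1 := h1 (B := B) ((t⁻¹ : Bˣ) - 1) 1 t⁻¹ (by ring)
    have e2 := h2 (B := B) ((t⁻¹ : Bˣ) - 1) 1 t⁻¹ (by ring)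
    rw [inv_inv, mul_one] at e1 e2
    exact grp_aux e1 e2
  -- the two polynomial families
  let gp : Pt R A B[X] := δ B[X] X
  let gq : Pt R A B[X] := V B[X] (X - 1) * δ B[X] 1 * (V B[X] (X - 1))⁻¹
  let L := LaurentPolynomial B
  let φ₁ : B[X] →ₐ[R] L := (Polynomial.aeval (R := B) (LaurentPolynomial.T 1 : L)).restrictScalars R
  let φ₂ : B[X] →ₐ[R] L := (Polynomial.aeval (R := B) (LaurentPolynomial.T (-1) : L)).restrictScalars R
  have hφ₁ : φ₁ X = LaurentPolynomial.T 1 := Polynomial.aeval_X _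
  have hφ₂ : φ₂ X = LaurentPolynomial.T (-1) := Polynomial.aeval_X _
  have hpq : Pt.map φ₁ gp = Pt.map φ₂ gq := by
    simp only [gp, gq]
    rw [hnat, Pt.map_mul, Pt.map_mul, Pt.map_inv, hV, hnat, map_sub, map_one, hφ₁, hφ₂]
    let t : Lˣ := ⟨LaurentPolynomial.T 1, LaurentPolynomial.T (-1),
      by rw [← LaurentPolynomial.T_add]; exact LaurentPolynomial.T_zero,
      by rw [← LaurentPolynomial.T_add]; exact LaurentPolynomial.T_zero⟩
    exact hone (B := L) t
  have hconst : ∀ f : A, gp.hom f = C ((gp.hom f).coeff 0) := fun f =>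
    eq_C_of_laurent _ (gq.hom f) (congrArg (fun k : Pt R A L => k.hom f) hpq)
  have h3 : Pt.map ((Polynomial.aeval (R := B) y).restrictScalars R) gp =
      Pt.map ((Polynomial.aeval (R := B) (0 : B)).restrictScalars R) gp := by
    apply Pt.ext
    intro f
    rw [Pt.map_hom_apply, Pt.map_hom_apply, hconst]
    simp
  simp only [gp] at h3
  rw [hnat, hnat] at h3
  have h4 : ((Polynomial.aeval (R := B) y).restrictScalars R) X = y := Polynomial.aeval_X _
  have h5 : ((Polynomial.aeval (R := B) (0 : B)).restrictScalars R) X = 0 := Polynomial.aeval_X _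
  rw [h4, h5] at h3
  simp only [δ] at h3
  rw [h0, h0', inv_one, mul_one] at h3
  exact (mul_inv_eq_one.mp h3).symm

end K214.DualUniqPt
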