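import Groth.Prelude.Def_Red2

/-!
# Everything is trivial over the empty scheme
-/

set_option autoImplicit false
universe u
open CategoryTheory MonoidalCategory CartesianMonoidalCategory MonObj GrpObj AlgebraicGeometry Limits

namespace K214.EmptyBase

variable {S : Scheme.{u}} [IsEmpty S]

lemma subsingleton_hom (X Y : Over S) : Subsingleton (X ⟶ Y) := by
  have : IsEmpty Y.left := Function.isEmpty Y.hom
  have : IsIso Y.hom := inferInstance
  exact ⟨fun a b => by
    ext1
    rw [← cancel_mono Y.hom, Over.w, Over.w]⟩

lemma subsingleton_fn (X : Over S) : Subsingleton Γ(X.left, ⊤) := by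
  have : IsEmpty X.left := Function.isEmpty X.hom
  have h : (⊤ : X.left.Opens) = ⊥ := by
    ext x
    exact isEmptyElim x
  rw [h]
  infer_instance

end K214.EmptyBase
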