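import Groth.Agent.Red.K214.FnForm
import Groth.Agent.Sga3B.Chart
import Groth.Agent.Sga3B.TorusIrr
import Mathlib.AlgebraicGeometry.AlgClosed.Basic
import Mathlib.AlgebraicGeometry.Morphisms.FlatMono

/-!
# Étale normal subgroups of connected groups over an algebraically closed field
-/

set_option autoImplicit false
universe u
open CategoryTheory MonoidalCategory CartesianMonoidalCategory MonObj GrpObj AlgebraicGeometry Limits
open Polynomial

namespace K214.EtaleSub

open Groth.Agent.Sga3B

/-- Two maps from a connected scheme into a separated unramified scheme over the base that agree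
after composition with a map from a nonempty scheme agree. -/
theorem eq_of_agree {X S Y T : Scheme.{u}} (π : X ⟶ S)
    [FormallyUnramified π] [LocallyOfFiniteType π] [IsSeparated π] [ConnectedSpace Y] [Nonempty T]
    (w : T ⟶ Y) (f g : Y ⟶ X) (hfg : f ≫ π = g ≫ π) (hw : w ≫ f = w ≫ g) : f = g := by
  obtain ⟨d, hd1, hd2⟩ : ∃ d : Y ⟶ pullback π π, d ≫ pullback.fst π π = f ∧ d ≫ pullback.snd π π = g :=
    ⟨pullback.lift f g hfg, pullback.lift_fst _ _ _, pullback.lift_snd _ _ _⟩
  obtain ⟨e, he⟩ : ∃ e, e = pullback.snd (pullback.diagonal π) d := ⟨_, rfl⟩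
  have : IsOpenImmersion e := by rw [he]; infer_instance
  have : IsClosedImmersion e := by rw [he]; infer_instance
  have hcl : IsClopen (Set.range e.base) := ⟨e.isClosedEmbedding.isClosed_range, e.isOpenEmbedding.isOpen_range⟩
  obtain ⟨l, hl⟩ : ∃ l : T ⟶ pullback (pullback.diagonal π) d,
      l ≫ pullback.snd (pullback.diagonal π) d = w := by
    refine ⟨pullback.lift (w ≫ f) w ?_, pullback.lift_snd _ _ _⟩
    apply pullback.hom_ext
    · rw [Category.assoc, Category.assoc, Category.assoc, pullback.diagonal_fst, hd1, Category.comp_id]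
    · rw [Category.assoc, Category.assoc, Category.assoc, pullback.diagonal_snd, hd2, Category.comp_id, hw]
  obtain ⟨t⟩ := ‹Nonempty T›
  have huniv : Set.range e.base = Set.univ := hcl.eq_univ ⟨_, l.base t, rfl⟩
  have : Surjective e := ⟨Set.range_eq_univ.mp huniv⟩
  have : IsIso e := (isIso_iff_isOpenImmersion_and_surjective e).mpr ⟨inferInstance, inferInstance⟩
  have hc := pullback.condition (f := pullback.diagonal π) (g := d)
  rw [← he] at hc
  have h1 : e ≫ f = e ≫ g := by
    rw [← hd1, ← hd2, ← Category.assoc, ← hc, ← Category.assoc, ← hc, Category.assoc, Category.assoc,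
      pullback.diagonal_fst, pullback.diagonal_snd]
  exact (cancel_epi e).mp h1

/-- A section of an étale morphism is an open immersion. -/
theorem isOpenImmersion_of_section {S E : Scheme.{u}} (p : E ⟶ S) [Etale p] (a : S ⟶ E)
    (ha : a ≫ p = 𝟙 S) : IsOpenImmersion a := by
  have h1 : Etale (a ≫ p) := by rw [ha]; infer_instance
  have h2 : Etale a := MorphismProperty.of_postcomp (W := @Etale) (W' := @Etale) a p ‹_› h1
  have h3 : Mono a := by
    have : Mono (a ≫ p) := by rw [ha]; infer_instance
    exact mono_of_mono a p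
  exact IsOpenImmersion.of_flat_of_mono a

variable {K : Type u} [Field K]

/-- An étale group over an algebraically closed field without non-trivial rational points is
trivial. -/
theorem isTrivialGrp_of_points [IsAlgClosed K] (N : Over (Spec (CommRingCat.of K))) [GrpObj N]
    (het : Etale N.hom) (h : ∀ m : 𝟙_ (Over (Spec (CommRingCat.of K))) ⟶ N, m = 1) :
    Red.IsTrivialGrp N := by
  have ha : η[N].left ≫ N.hom = 𝟙 _ := Over.w η[N]
  have h1 : IsOpenImmersion η[N].left := isOpenImmersion_of_section N.hom _ ha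
  have hJ : JacobsonSpace N.left := LocallyOfFiniteType.jacobsonSpace N.hom
  have h2 : Surjective η[N].left := by
    refine ⟨fun y => ?_⟩
    by_contra hy
    obtain ⟨z, hz, hz'⟩ := nonempty_inter_closedPoints (Z := (Set.range η[N].left)ᶜ) ⟨y, hy⟩
      (η[N].left.isOpenEmbedding.isOpen_range.isClosed_compl.isLocallyClosed)
    let m : 𝟙_ (Over (Spec (CommRingCat.of K))) ⟶ N :=
      Over.homMk (pointOfClosedPoint N.hom z hz') (pointOfClosedPoint_comp N.hom z hz')
    have h3 : m = η[N] := by
      rw [h m, Hom.one_def, toUnit_unit, Category.id_comp]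
    apply hz
    refine ⟨IsLocalRing.closedPoint K, ?_⟩
    rw [← h3]
    exact pointOfClosedPoint_apply N.hom z hz' _
  have h3 : IsIso η[N].left :=
    (isIso_iff_isOpenImmersion_and_surjective _).mpr ⟨inferInstance, inferInstance⟩
  exact IsIso.of_isIso_fac_left ha

/-- conjugation of a rational point of an étale normal subgroup by a connected scheme is constant -/
theorem conj_eq {X P N : Over (Spec (CommRingCat.of K))} [GrpObj P] [GrpObj N] [ConnectedSpace X.left]
    (n : N ⟶ P) [IsMonHom n] [Mono n] (hn : AlgGrp.IsNormalHom n) (het : Etale N.hom) [IsSeparated N.hom]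
    (g : X ⟶ P) (o : 𝟙_ (Over (Spec (CommRingCat.of K))) ⟶ X) (ho : o ≫ g = 1)
    (m : 𝟙_ (Over (Spec (CommRingCat.of K))) ⟶ N) :
    g * (toUnit X ≫ m ≫ n) * g⁻¹ = toUnit X ≫ m ≫ n := by
  obtain ⟨φ, hφ⟩ := hn X g (toUnit X ≫ m)
  have h1 : φ = toUnit X ≫ m := by
    ext1
    have h2 : Nonempty (𝟙_ (Over (Spec (CommRingCat.of K)))).left :=
      inferInstanceAs (Nonempty (Spec (CommRingCat.of K)))
    refine eq_of_agree N.hom o.left _ _ (by rw [Over.w, Over.w]) ?_
    have h3 : o ≫ φ = o ≫ toUnit X ≫ m := by
      rw [← cancel_mono n, Category.assoc, ← hφ, MonObj.comp_mul, MonObj.comp_mul, GrpObj.comp_inv, ho]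
      simp
    exact congrArg CommaMorphism.left h3
  rw [Category.assoc] at hφ
  rw [hφ, h1, Category.assoc]

end K214.EtaleSub
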