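import Mathlib.AlgebraicGeometry.Morphisms.Flat
import Mathlib.AlgebraicGeometry.AffineScheme
import Mathlib.RingTheory.Polynomial.Basic
import Mathlib.RingTheory.Flat.Stability
import Mathlib.RingTheory.Localization.AtPrime.Basic

/-!
# Making the values of a monic polynomial invertible flat-locally

For a scheme `X`, a point `x` and a monic polynomial `f` over `Γ(X, ⊤)` there are a flat `g : Z ⟶ X`
with `x` in its image and a function `v` on `Z` such that `f(v)` is a unit.
-/

set_option autoImplicit false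
universe u
open CategoryTheory AlgebraicGeometry Polynomial

namespace K214.FlatUnit

/-- ring version -/
lemma exists_ring (R : Type u) [CommRing R] (p : PrimeSpectrum R) (f : R[X]) (hf : f.Monic) :
    ∃ (B : Type u) (_ : CommRing B) (φ : R →+* B) (v : B), φ.Flat ∧ p ∈ Set.range (PrimeSpectrum.comap φ) ∧
      IsUnit (f.eval₂ φ v) := by
  have hp := p.isPrime
  let q : Ideal R[X] := p.asIdeal.map C
  have hq : q.IsPrime := Ideal.isPrime_map_C_of_isPrime
  let B := Localization.AtPrime q
  let φ : R →+* B := (algebraMap R[X] B).comp C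
  refine ⟨B, inferInstance, φ, algebraMap R[X] B X, ?_, ?_, ?_⟩
  · have h1 : (C : R →+* R[X]).Flat := by
      rw [← Polynomial.algebraMap_eq]
      exact RingHom.flat_algebraMap_iff.mpr inferInstance
    have h2 : (algebraMap R[X] B).Flat := RingHom.flat_algebraMap_iff.mpr (IsLocalization.flat B q.primeCompl)
    exact h1.comp h2
  · refine ⟨IsLocalRing.closedPoint B, ?_⟩
    apply PrimeSpectrum.ext
    change Ideal.comap φ (IsLocalRing.maximalIdeal B) = p.asIdeal
    have h0 : Ideal.comap (algebraMap R[X] B) (IsLocalRing.maximalIdeal B) = q :=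
      IsLocalization.AtPrime.under_maximalIdeal B q
    rw [← Ideal.comap_comap, h0]
    ext r
    rw [Ideal.mem_comap, Ideal.mem_map_C_iff]
    constructor
    · intro h
      simpa using h 0
    · intro h n
      rw [coeff_C]
      split_ifs
      · exact h
      · exact p.asIdeal.zero_mem
  · have h1 : f.eval₂ φ (algebraMap R[X] B X) = algebraMap R[X] B f := by
      have h2 := Polynomial.hom_eval₂ f C (algebraMap R[X] B) X
      rw [Polynomial.eval₂_C_X] at h2
      exact h2.symm
    rw [h1]
    apply IsLocalization.map_units B (⟨f, ?_⟩ : q.primeCompl)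
    intro hfq
    rw [SetLike.mem_coe, Ideal.mem_map_C_iff] at hfq
    have h3 := hfq f.natDegree
    rw [hf.coeff_natDegree] at h3
    exact hp.ne_top ((Ideal.eq_top_iff_one _).mpr h3)

/-- **Values of monic polynomials become invertible flat-locally.** -/
theorem exists_unit (X : Scheme.{u}) (x : X) (f : Γ(X, ⊤)[X]) (hf : f.Monic) :
    ∃ (Z : Scheme.{u}) (g : Z ⟶ X) (v : Γ(Z, ⊤)), Flat g ∧ x ∈ Set.range g ∧
      IsUnit (f.eval₂ g.appTop.hom v) := by
  obtain ⟨U, hU, hx, -⟩ := exists_isAffineOpen_mem_and_subset (U := (⊤ : X.Opens)) (x := x) trivial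
  obtain ⟨y, hy⟩ : x ∈ Set.range (IsAffineOpen.fromSpec hU) := by
    rw [IsAffineOpen.range_fromSpec]; exact hx
  let R := Γ(X, U)
  let i : Spec R ⟶ X := IsAffineOpen.fromSpec hU
  let ρ : Γ(X, ⊤) →+* R := (Scheme.ΓSpecIso R).hom.hom.comp i.appTop.hom
  obtain ⟨B, _, φ, v, hφ, ⟨z, hz⟩, hu⟩ := exists_ring R y (f.map ρ) (hf.map ρ)
  refine ⟨Spec (CommRingCat.of B), Spec.map (CommRingCat.ofHom φ) ≫ i,
    (Scheme.ΓSpecIso (CommRingCat.of B)).inv v, ?_, ?_, ?_⟩
  · have : Flat (Spec.map (CommRingCat.ofHom φ)) := Flat.SpecMap_iff.mpr hφ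
    have : Flat i := inferInstance
    infer_instance
  · refine ⟨z, ?_⟩
    rw [Scheme.Hom.comp_apply, ← hy]
    exact congrArg i hz
  · have h1 : (Spec.map (CommRingCat.ofHom φ) ≫ i).appTop.hom =
        ((Scheme.ΓSpecIso (CommRingCat.of B)).inv.hom.comp φ).comp ρ := by
      have h2 := Scheme.ΓSpecIso_naturality (CommRingCat.ofHom φ)
      have h3 : (Spec.map (CommRingCat.ofHom φ)).appTop = (Scheme.ΓSpecIso R).hom ≫
          CommRingCat.ofHom φ ≫ (Scheme.ΓSpecIso (CommRingCat.of B)).inv := by
        rw [← Category.assoc, Iso.eq_comp_inv]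
        exact h2
      rw [Scheme.Hom.comp_appTop, h3]
      rfl
    rw [h1, ← Polynomial.eval₂_map, ← Polynomial.hom_eval₂]
    exact hu.map _

end K214.FlatUnit
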