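import Mathlib.FieldTheory.RatFunc.Degree
import Mathlib.FieldTheory.RatFunc.AsPolynomial
import Mathlib.Algebra.MvPolynomial.Equiv
import Mathlib.Algebra.Polynomial.Degree.Lemmas
import Mathlib.RingTheory.Localization.FractionRing

/-!
# The functional equation `F(x + y F(x)) = F(x) F(y)` for rational functions
-/

set_option autoImplicit false

open Polynomial

namespace K214.FunEq

variable {k : Type*} [Field k]

/-- the polynomial core over an extension `K` of `k` -/
lemma core {K : Type*} [Field K] (P Q : K[X]) (x c : K) (hc : c ≠ 0) (hQ : Q ≠ 0) (a d : K) (R : K[X]) (hR : R.degree < Q.degree)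
    (hPQ : P = Q * (C a * X + C d) + R)
    (h : P.comp (C x + X * C c) * Q = C c * P * Q.comp (C x + X * C c)) :
    a * x + d = c * d := by
  set ℓ : K[X] := C x + X * C c with hℓ
  have hℓd : ℓ.natDegree = 1 := by
    rw [hℓ, add_comm, X_mul_C]
    exact natDegree_linear hc
  by_contra hne
  have hne' : a * x + d - c * d ≠ 0 := sub_ne_zero.mpr hne
  have key : Q.comp ℓ * Q * C (a * x + d - c * d) = C c * R * Q.comp ℓ - R.comp ℓ * Q := by
    have h1 : P.comp ℓ = Q.comp ℓ * (C a * ℓ + C d) + R.comp ℓ := by
      rw [hPQ]; simp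
    rw [h1] at h
    have h2 : (Q.comp ℓ * (C a * ℓ + C d) + R.comp ℓ) * Q -
        C c * (Q * (C a * X + C d) + R) * Q.comp ℓ = 0 := by
      rw [h, hPQ]; ring
    have h3 : (C a * ℓ + C d) - C c * (C a * X + C d) = C (a * x + d - c * d) := by
      rw [hℓ]; simp only [map_add, map_sub, map_mul]; ring
    rw [← h3]
    linear_combination h2
  have hQℓ : Q.comp ℓ ≠ 0 := by
    intro h0
    rcases comp_eq_zero_iff.mp h0 with h1 | ⟨-, h1⟩
    · exact hQ h1
    · have := congrArg natDegree h1
      rw [hℓd, natDegree_C] at this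
      exact one_ne_zero this
  have hdegQ : (Q.comp ℓ).degree = Q.degree := by
    rw [degree_eq_natDegree hQℓ, degree_eq_natDegree hQ, natDegree_comp, hℓd, mul_one]
  have hdegR : (R.comp ℓ).degree < Q.degree := by
    by_cases hR0 : R.comp ℓ = 0
    · rw [hR0, degree_zero, bot_lt_iff_ne_bot]
      exact fun h => hQ (degree_eq_bot.mp h)
    · have hR1 : R ≠ 0 := by rintro rfl; simp at hR0
      rw [degree_eq_natDegree hR0, natDegree_comp, hℓd, mul_one, ← degree_eq_natDegree hR1]
      exact hR
  have h4 : (Q.comp ℓ * Q * C (a * x + d - c * d)).degree = Q.degree + Q.degree := by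
    rw [degree_mul, degree_mul, hdegQ, degree_C hne', add_zero]
  have h5 : (C c * R * Q.comp ℓ - R.comp ℓ * Q).degree < Q.degree + Q.degree := by
    refine lt_of_le_of_lt (degree_sub_le _ _) ?_
    have hbot : Q.degree ≠ ⊥ := fun h => hQ (degree_eq_bot.mp h)
    apply max_lt
    · rw [degree_mul, degree_mul, degree_C hc, zero_add, hdegQ]
      exact WithBot.add_lt_add_right hbot hR
    · rw [degree_mul]
      exact WithBot.add_lt_add_right hbot hdegR
  rw [← key, h4] at h5
  exact lt_irrefl _ h5


/-- The embedding `k[X₀, X₁] → k(X)[Y]`. -/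
noncomputable def psi (k : Type*) [Field k] : MvPolynomial (Fin 2) k →ₐ[k] (RatFunc k)[X] :=
  MvPolynomial.aeval ![C RatFunc.X, X]

lemma psi_injective : Function.Injective (psi k) := by
  -- swap the variables
  let e : MvPolynomial (Fin 2) k ≃ₐ[k] (MvPolynomial (Fin 1) k)[X] :=
    (MvPolynomial.renameEquiv k (Equiv.swap (0 : Fin 2) 1)).trans (MvPolynomial.finSuccEquiv k 1)
  let g : MvPolynomial (Fin 1) k →ₐ[k] RatFunc k :=
    (Algebra.ofId k[X] (RatFunc k)).restrictScalars k |>.comp
      (MvPolynomial.uniqueAlgEquiv k (Fin 1)).toAlgHom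
  have hg : Function.Injective g :=
    (RatFunc.algebraMap_injective k).comp (MvPolynomial.uniqueAlgEquiv k (Fin 1)).injective
  have h : psi k = (Polynomial.mapAlgHom g).comp e.toAlgHom := by
    apply MvPolynomial.algHom_ext
    intro i
    fin_cases i
    · have h1 : e (MvPolynomial.X 0) = C (MvPolynomial.X 0) := by
        change MvPolynomial.finSuccEquiv k 1 (MvPolynomial.rename _ (MvPolynomial.X 0)) = _
        rw [MvPolynomial.rename_X, Equiv.swap_apply_left]
        exact MvPolynomial.finSuccEquiv_X_succ (j := 0)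
      have h2 : g (MvPolynomial.X 0) = RatFunc.X := by
        have h3 : MvPolynomial.uniqueAlgEquiv k (Fin 1) (MvPolynomial.X 0) = X := by
          simp [MvPolynomial.uniqueAlgEquiv]
        change algebraMap k[X] (RatFunc k) (MvPolynomial.uniqueAlgEquiv k (Fin 1) (MvPolynomial.X 0)) = _
        rw [h3, RatFunc.algebraMap_X]
      change psi k (MvPolynomial.X 0) = Polynomial.map (g : _ →+* _) (e (MvPolynomial.X 0))
      rw [h1, Polynomial.map_C]
      change psi k (MvPolynomial.X 0) = C (g (MvPolynomial.X 0))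
      rw [h2]
      simp [psi]
    · have h1 : e (MvPolynomial.X 1) = X := by
        change MvPolynomial.finSuccEquiv k 1 (MvPolynomial.rename _ (MvPolynomial.X 1)) = _
        rw [MvPolynomial.rename_X, Equiv.swap_apply_right]
        exact MvPolynomial.finSuccEquiv_X_zero
      change psi k (MvPolynomial.X 1) = Polynomial.map (g : _ →+* _) (e (MvPolynomial.X 1))
      rw [h1, Polynomial.map_X]
      simp [psi]
  rw [h]
  exact (Polynomial.map_injective g.toRingHom hg).comp e.injective

/-- `F(X₀ + X₁ F(X₀)) = F(X₀) F(X₁)` implies the polynomial identity over `k(X)`. -/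
lemma exists_identity (F : RatFunc k) (hF : F ≠ 0)
    (hFE : RatFunc.eval (algebraMap k (FractionRing (MvPolynomial (Fin 2) k)))
        (algebraMap (MvPolynomial (Fin 2) k) (FractionRing (MvPolynomial (Fin 2) k)) (MvPolynomial.X 0) +
          algebraMap (MvPolynomial (Fin 2) k) (FractionRing (MvPolynomial (Fin 2) k)) (MvPolynomial.X 1) *
            RatFunc.eval (algebraMap k (FractionRing (MvPolynomial (Fin 2) k)))
              (algebraMap (MvPolynomial (Fin 2) k) (FractionRing (MvPolynomial (Fin 2) k)) (MvPolynomial.X 0)) F) F =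
      RatFunc.eval (algebraMap k (FractionRing (MvPolynomial (Fin 2) k)))
          (algebraMap (MvPolynomial (Fin 2) k) (FractionRing (MvPolynomial (Fin 2) k)) (MvPolynomial.X 0)) F *
        RatFunc.eval (algebraMap k (FractionRing (MvPolynomial (Fin 2) k)))
          (algebraMap (MvPolynomial (Fin 2) k) (FractionRing (MvPolynomial (Fin 2) k)) (MvPolynomial.X 1)) F) :
    (F.num.map (RatFunc.C)).comp (C RatFunc.X + X * C F) * F.denom.map (RatFunc.C) =
      C F * F.num.map (RatFunc.C) * (F.denom.map (RatFunc.C)).comp (C RatFunc.X + X * C F) := by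
  classical
  let L := FractionRing (MvPolynomial (Fin 2) k)
  let E := FractionRing (RatFunc k)[X]
  let ι : (RatFunc k)[X] →+* E := algebraMap _ _
  have hι : Function.Injective ι := IsFractionRing.injective _ _
  let ψ : MvPolynomial (Fin 2) k →+* E := ι.comp (psi k : MvPolynomial (Fin 2) k →+* (RatFunc k)[X])
  have hψ : Function.Injective ψ := hι.comp psi_injective
  let φ : L →+* E := IsFractionRing.lift hψ
  have hφ : ∀ p, φ (algebraMap (MvPolynomial (Fin 2) k) L p) = ι (psi k p) := fun p =>
    IsFractionRing.lift_algebraMap hψ p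
  have hφ0 : φ (algebraMap (MvPolynomial (Fin 2) k) L (MvPolynomial.X 0)) = ι (C RatFunc.X) := by
    rw [hφ]; simp [psi]
  have hφ1 : φ (algebraMap (MvPolynomial (Fin 2) k) L (MvPolynomial.X 1)) = ι X := by
    rw [hφ]; simp [psi]
  have hφc : φ.comp (algebraMap k L) = (ι.comp C).comp RatFunc.C := by
    ext c
    have h1 : algebraMap k L c = algebraMap (MvPolynomial (Fin 2) k) L (MvPolynomial.C c) :=
      IsScalarTower.algebraMap_apply k (MvPolynomial (Fin 2) k) L c
    rw [RingHom.comp_apply, h1, hφ, ← MvPolynomial.algebraMap_eq, AlgHom.commutes]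
    rfl
  have hev : ∀ a : L, φ (RatFunc.eval (algebraMap k L) a F) =
      RatFunc.eval ((ι.comp C).comp RatFunc.C) (φ a) F := by
    intro a
    rw [RatFunc.eval, RatFunc.eval, map_div₀, hom_eval₂, hom_eval₂, hφc]
  have hpol : ∀ (p : k[X]) (q : (RatFunc k)[X]),
      p.eval₂ ((ι.comp C).comp RatFunc.C) (ι q) = ι ((p.map RatFunc.C).comp q) := by
    intro p q
    rw [comp, hom_eval₂, eval₂_map]
  have hCF : RatFunc.eval ((ι.comp C).comp RatFunc.C) (ι (C RatFunc.X)) F = ι (C F) := by
    have h1 : ∀ p : k[X], p.eval₂ ((ι.comp C).comp RatFunc.C) (ι (C RatFunc.X)) =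
        (ι.comp C) (algebraMap k[X] (RatFunc k) p) := by
      intro p
      have h2 : algebraMap k[X] (RatFunc k) p = p.eval₂ RatFunc.C RatFunc.X := by
        induction p using Polynomial.induction_on' with
        | add p q hp hq => rw [map_add, hp, hq, eval₂_add]
        | monomial n a =>
          rw [← C_mul_X_pow_eq_monomial]
          simp
      rw [h2, hom_eval₂]
      rfl
    rw [RatFunc.eval, h1, h1, ← map_div₀, RatFunc.num_div_denom]
    rfl
  have key := congrArg φ hFE
  rw [map_mul, hev, hev, hev, map_add, map_mul, hev, hφ0, hφ1, hCF, ← map_mul, ← map_add] at key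
  rw [RatFunc.eval, RatFunc.eval, hpol, hpol, hpol, hpol] at key
  have hd0 : F.denom.map (RatFunc.C (K := k)) ≠ 0 :=
    (Polynomial.map_ne_zero_iff (RatFunc.C (K := k)).injective).mpr F.denom_ne_zero
  have hd1 : (F.denom.map (RatFunc.C (K := k))).comp (C RatFunc.X + X * C F) ≠ 0 := by
    intro h0
    rcases comp_eq_zero_iff.mp h0 with h1 | ⟨-, h1⟩
    · exact hd0 h1
    · have h2 := congrArg natDegree h1
      rw [add_comm (C RatFunc.X), X_mul_C, natDegree_linear hF, natDegree_C] at h2
      exact one_ne_zero h2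
  have hd0' := (map_ne_zero_iff ι hι).mpr hd0
  have hd1' := (map_ne_zero_iff ι hι).mpr hd1
  rw [comp_X, comp_X] at key
  apply hι
  rw [map_mul, map_mul, map_mul]
  rw [div_eq_iff hd1'] at key
  rw [key, mul_right_comm (ι (C F) * _), mul_assoc (ι (C F)), div_mul_cancel₀ _ hd0']

/-- The solutions of the functional equation. -/
theorem main (F : RatFunc k) (h0 : F.denom.eval 0 ≠ 0) (h1 : F.num.eval 0 = F.denom.eval 0)
    (hFE : RatFunc.eval (algebraMap k (FractionRing (MvPolynomial (Fin 2) k)))
        (algebraMap (MvPolynomial (Fin 2) k) (FractionRing (MvPolynomial (Fin 2) k)) (MvPolynomial.X 0) +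
          algebraMap (MvPolynomial (Fin 2) k) (FractionRing (MvPolynomial (Fin 2) k)) (MvPolynomial.X 1) *
            RatFunc.eval (algebraMap k (FractionRing (MvPolynomial (Fin 2) k)))
              (algebraMap (MvPolynomial (Fin 2) k) (FractionRing (MvPolynomial (Fin 2) k)) (MvPolynomial.X 0)) F) F =
      RatFunc.eval (algebraMap k (FractionRing (MvPolynomial (Fin 2) k)))
          (algebraMap (MvPolynomial (Fin 2) k) (FractionRing (MvPolynomial (Fin 2) k)) (MvPolynomial.X 0)) F *
        RatFunc.eval (algebraMap k (FractionRing (MvPolynomial (Fin 2) k)))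
          (algebraMap (MvPolynomial (Fin 2) k) (FractionRing (MvPolynomial (Fin 2) k)) (MvPolynomial.X 1)) F) :
    ∃ a : k, F = 1 + RatFunc.C a * RatFunc.X := by
  have hnum : F.num ≠ 0 := by
    intro h
    rw [h, eval_zero] at h1
    exact h0 h1.symm
  have hF : F ≠ 0 := fun h => hnum (by rw [h, RatFunc.num_zero])
  have hQ : F.denom ≠ 0 := F.denom_ne_zero
  have key := exists_identity F hF hFE
  have hCi := (RatFunc.C (K := k)).injective
  -- leading coefficients
  have hl : (C RatFunc.X + X * C F : (RatFunc k)[X]).natDegree = 1 := by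
    rw [add_comm (C RatFunc.X), X_mul_C, natDegree_linear hF]
  have hl' : (C RatFunc.X + X * C F : (RatFunc k)[X]).leadingCoeff = F := by
    rw [add_comm (C RatFunc.X), X_mul_C, leadingCoeff_linear hF]
  have h2 := congrArg leadingCoeff key
  simp only [leadingCoeff_mul, leadingCoeff_comp (hl ▸ one_ne_zero), hl', leadingCoeff_C,
    leadingCoeff_map, natDegree_map] at h2
  have hp : RatFunc.C F.num.leadingCoeff ≠ 0 := by
    rw [_root_.map_ne_zero]; exact leadingCoeff_ne_zero.mpr hnum
  have hq : RatFunc.C F.denom.leadingCoeff ≠ 0 := by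
    rw [_root_.map_ne_zero]; exact leadingCoeff_ne_zero.mpr hQ
  have h3 : F ^ F.num.natDegree = F ^ (F.denom.natDegree + 1) := by
    have h4 : RatFunc.C F.num.leadingCoeff * RatFunc.C F.denom.leadingCoeff *
        (F ^ F.num.natDegree - F ^ (F.denom.natDegree + 1)) = 0 := by
      linear_combination h2
    have h5 := (mul_eq_zero.mp h4).resolve_left (mul_ne_zero hp hq)
    exact sub_eq_zero.mp h5
  by_cases hdeg : F.num.natDegree = F.denom.natDegree + 1
  · -- the main case
    set P := F.num with hP
    set Q := F.denom with hQdef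
    have hmonic : Q.Monic := RatFunc.monic_denom F
    have hdiv : (P /ₘ Q).natDegree = 1 := by
      rw [natDegree_divByMonic _ hmonic, hdeg, Nat.add_sub_cancel_left]
    have hlin : P /ₘ Q = C ((P /ₘ Q).coeff 1) * X + C ((P /ₘ Q).coeff 0) :=
      eq_X_add_C_of_natDegree_le_one hdiv.le
    set a := (P /ₘ Q).coeff 1 with ha
    set d := (P /ₘ Q).coeff 0 with hd
    have ha0 : a ≠ 0 := by
      intro h
      rw [h, map_zero, zero_mul, zero_add] at hlin
      rw [hlin, natDegree_C] at hdiv
      exact zero_ne_one hdiv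
    have hPQ : P = Q * (C a * X + C d) + P %ₘ Q := by
      rw [← hlin, add_comm]
      exact (modByMonic_add_div P Q).symm
    have h6 := core (P.map RatFunc.C) (Q.map RatFunc.C) RatFunc.X F hF
      ((Polynomial.map_ne_zero_iff hCi).mpr hQ) (RatFunc.C a) (RatFunc.C d) ((P %ₘ Q).map RatFunc.C)
      (by
        rw [degree_map, degree_map]
        exact degree_modByMonic_lt _ hmonic)
      (by
        conv_lhs => rw [hPQ]
        simp) key
    have hd0 : d ≠ 0 := by
      intro h
      rw [h, map_zero, add_zero, mul_zero, mul_eq_zero, map_eq_zero] at h6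
      rcases h6 with h7 | h7
      · exact ha0 h7
      · exact RatFunc.X_ne_zero h7
    refine ⟨a / d, ?_⟩
    have hCd : RatFunc.C d ≠ 0 := by rw [_root_.map_ne_zero]; exact hd0
    rw [map_div₀]
    field_simp
    linear_combination -h6
  · -- `F` is constant
    have h4 : ∃ n : ℕ, n ≠ 0 ∧ F ^ n = 1 := by
      rcases lt_or_gt_of_ne hdeg with h | h
      · obtain ⟨n, hn⟩ := Nat.exists_eq_add_of_lt h
        refine ⟨n + 1, by omega, ?_⟩
        rw [hn, add_assoc, pow_add] at h3
        exact (mul_eq_left₀ (pow_ne_zero _ hF)).mp h3.symm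
      · obtain ⟨n, hn⟩ := Nat.exists_eq_add_of_lt h
        refine ⟨n + 1, by omega, ?_⟩
        rw [hn, add_assoc, pow_add] at h3
        exact (mul_eq_left₀ (pow_ne_zero _ hF)).mp h3
    obtain ⟨n, hn, h4⟩ := h4
    refine ⟨0, ?_⟩
    rw [map_zero, zero_mul, add_zero]
    -- `P ^ n = Q ^ n`, so `P` and `Q` are units
    have h5 : F.num ^ n = F.denom ^ n := by
      apply RatFunc.algebraMap_injective k
      rw [map_pow, map_pow]
      have h6 := RatFunc.num_div_denom F
      have h7 : algebraMap k[X] (RatFunc k) F.denom ≠ 0 := by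
        rw [map_ne_zero_iff _ (RatFunc.algebraMap_injective k)]; exact hQ
      rw [← h6, div_pow, div_eq_one_iff_eq (pow_ne_zero _ h7)] at h4
      exact h4
    have h6 : IsUnit F.denom := by
      have h7 : IsCoprime (F.num ^ n) (F.denom ^ n) := (RatFunc.isCoprime_num_denom F).pow
      rw [h5] at h7
      have h8 := isCoprime_self.mp h7
      exact (isUnit_pow_iff hn).mp h8
    have h7 : IsUnit F.num := by
      have h8 : IsUnit (F.num ^ n) := by rw [h5]; exact h6.pow n
      exact (isUnit_pow_iff hn).mp h8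
    obtain ⟨p, -, hp'⟩ := Polynomial.isUnit_iff.mp h7
    obtain ⟨q, -, hq'⟩ := Polynomial.isUnit_iff.mp h6
    rw [← hp', ← hq', eval_C, eval_C] at h1
    have h8 : F.num = F.denom := by rw [← hp', ← hq', h1]
    have h9 := RatFunc.num_div_denom F
    rw [h8, div_self (by
      rw [map_ne_zero_iff _ (RatFunc.algebraMap_injective k)]; exact hQ)] at h9
    exact h9.symm

end K214.FunEq
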