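import Groth.Agent.Sga3.H811.Pts

/-!
# The squaring map of `𝔾_m` is non-trivial on every geometric fibre
-/

set_option autoImplicit false
universe u
open CategoryTheory MonoidalCategory CartesianMonoidalCategory MonObj GrpObj AlgebraicGeometry Limits

namespace K214.GmSq

open Groth.Agent.Sga3B.DSPts Groth.Agent.Sga3B.GaPts Groth.Agent.Sga3.H811.Pts

variable {S : Scheme.{u}}

theorem sq_map_ne_one (s : S) :
    (Over.pullback (Red.geomPt s)).map ((𝟙 (Red.Gm S)) ^ 2 : Red.Gm S ⟶ Red.Gm S) ≠ 1 := by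
  intro h
  let K := AlgebraicClosure (S.residueField s)
  let adj := Over.mapPullbackAdj (Red.geomPt s)
  let X : Over (Spec (CommRingCat.of K)) := Over.mk (𝟙 _)
  let φ : Red.Gm S ⟶ Red.Gm S := (𝟙 (Red.Gm S)) ^ 2
  have h1 : ∀ z : (Over.map (Red.geomPt s)).obj X ⟶ Red.Gm S, z ≫ φ = 1 := by
    intro z
    have h2 : ∀ z : (Over.map (Red.geomPt s)).obj X ⟶ Red.Gm S, adj.homEquiv _ _ (z ≫ φ) = 1 := by
      intro z
      rw [Adjunction.homEquiv_naturality_right, h, MonObj.comp_one]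
    have h3 : z ≫ φ = 1 ≫ φ := (adj.homEquiv _ _).injective ((h2 z).trans (h2 1).symm)
    rw [h3]
    change 1 ≫ ((𝟙 (Red.Gm S)) ^ 2) = 1
    rw [MonObj.comp_pow, Category.comp_id, one_pow]
  let Y : Over S := (Over.map (Red.geomPt s)).obj X
  let e : Γ(Y.left, ⊤) ≃+* K := (Scheme.ΓSpecIso (CommRingCat.of K)).commRingCatIsoToRingEquiv
  have h4 : ∀ u : Kˣ, (u : K) ^ 2 = 1 := by
    intro u
    let u' : Γ(Y.left, ⊤)ˣ := Units.map (e.symm : K →* Γ(Y.left, ⊤)) u
    have h5 := congrArg Red.gmFn (h1 (gmPt Y u'))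
    have h6 : gmPt Y u' ≫ φ = (gmPt Y u') ^ 2 := by
      change gmPt Y u' ≫ ((𝟙 (Red.Gm S)) ^ 2) = _
      rw [MonObj.comp_pow, Category.comp_id]
    rw [h6, gmFn_pow, gmFn_gmPt, gmFn_one] at h5
    have h7 := congrArg e h5
    rw [map_pow, map_one] at h7
    have h8 : e (u' : Γ(Y.left, ⊤)) = u := e.apply_symm_apply _
    rwa [h8] at h7
  have : Infinite K := IsAlgClosed.instInfinite
  classical
  obtain ⟨r, hr⟩ := Infinite.exists_notMem_finset ({0, 1, -1} : Finset K)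
  simp only [Finset.mem_insert, Finset.mem_singleton, not_or] at hr
  have h9 := h4 (Units.mk0 r hr.1)
  rw [Units.val_mk0] at h9
  rcases sq_eq_one_iff.mp h9 with h | h
  · exact hr.2.1 h
  · exact hr.2.2 h

end K214.GmSq
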