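import Mathlib.Algebra.Group.Units.Basic
import Mathlib.Algebra.Ring.Basic
import Mathlib.Tactic.Ring
import Mathlib.Tactic.Group
import Mathlib.Tactic.FieldSimp
import Mathlib.Tactic.LinearCombination

/-!
# Abstract rank one systems

`Sys B Γ`: `p, q : B → Γ` additive, `h : Bˣ → Γ` multiplicative, with
`h(u) p(x) h(u)⁻¹ = p(u² x)`, `h(u) q(y) h(u)⁻¹ = q(u⁻² y)` and the commutation rule
`p(x) q(y) = q(y/u) h(u) p(x/u)` for `u = 1 + x y` invertible.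
`w(x) = p(x) q(-x⁻¹) p(x)`.
-/

set_option autoImplicit false

namespace K214.RankOne

/-- An abstract rank one system. -/
structure Sys (B Γ : Type*) [CommRing B] [Group Γ] where
  /-- positive root group -/
  p : B → Γ
  /-- negative root group -/
  q : B → Γ
  /-- coroot -/
  h : Bˣ → Γ
  p_add : ∀ x y, p (x + y) = p x * p y
  q_add : ∀ x y, q (x + y) = q x * q y
  h_mul : ∀ u v, h (u * v) = h u * h v
  hp : ∀ (u : Bˣ) (x : B), h u * p x = p (u * u * x) * h u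
  hq : ∀ (u : Bˣ) (y : B), h u * q (u * u * y) = q y * h u
  F : ∀ (x y x' y' : B) (u : Bˣ), (u : B) = 1 + x * y → x' * u = x → y' * u = y →
    p x * q y = q y' * h u * p x'

namespace Sys

variable {B Γ : Type*} [CommRing B] [Group Γ] (s : Sys B Γ)

lemma p_zero : s.p 0 = 1 := by
  have h := s.p_add 0 0
  rw [add_zero] at h
  exact (mul_eq_left.mp h.symm)

lemma q_zero : s.q 0 = 1 := by
  have h := s.q_add 0 0
  rw [add_zero] at h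
  exact (mul_eq_left.mp h.symm)

lemma h_one : s.h 1 = 1 := by
  have h := s.h_mul 1 1
  rw [mul_one] at h
  exact (mul_eq_left.mp h.symm)

lemma p_neg (x : B) : s.p (-x) = (s.p x)⁻¹ := by
  rw [eq_inv_iff_mul_eq_one, ← s.p_add, neg_add_cancel, s.p_zero]

lemma q_neg (x : B) : s.q (-x) = (s.q x)⁻¹ := by
  rw [eq_inv_iff_mul_eq_one, ← s.q_add, neg_add_cancel, s.q_zero]

lemma h_inv (u : Bˣ) : s.h u⁻¹ = (s.h u)⁻¹ := by
  rw [eq_inv_iff_mul_eq_one, ← s.h_mul, inv_mul_cancel, s.h_one]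

/-- The reversed commutation rule. -/
lemma F' (x y x' y' : B) (u : Bˣ) (hu : (u : B) = 1 + x * y) (hx : x' * u = x) (hy : y' * u = y) :
    s.q y * s.p x = s.p x' * (s.h u)⁻¹ * s.q y' := by
  have h1 := s.F (-x) (-y) (-x') (-y') u (by rw [hu]; ring) (by rw [neg_mul, hx])
    (by rw [neg_mul, hy])
  rw [s.p_neg, s.q_neg, s.p_neg, s.q_neg] at h1
  have h2 := congrArg (fun g : Γ => g⁻¹) h1
  simp only [mul_inv_rev, inv_inv] at h2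
  rw [h2, mul_assoc]

/-- The dual system, with the roles of the two root groups exchanged. -/
def dual : Sys B Γ where
  p := s.q
  q := s.p
  h u := (s.h u)⁻¹
  p_add := s.q_add
  q_add := s.p_add
  h_mul u v := by rw [mul_comm, s.h_mul, mul_inv_rev]
  hp u x := by
    rw [inv_mul_eq_iff_eq_mul, ← mul_assoc, s.hq, mul_assoc, mul_inv_cancel, mul_one]
  hq u y := by
    rw [inv_mul_eq_iff_eq_mul, ← mul_assoc, s.hp, mul_assoc, mul_inv_cancel_right]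
  F x y x' y' u hu hx hy := s.F' y x y' x' u (by rw [hu, mul_comm]) hy hx

@[simp] lemma dual_p (x : B) : s.dual.p x = s.q x := rfl
@[simp] lemma dual_q (x : B) : s.dual.q x = s.p x := rfl
@[simp] lemma dual_h (u : Bˣ) : s.dual.h u = (s.h u)⁻¹ := rfl

/-- `w(x) = p(x) q(-x⁻¹) p(x)` -/
def w (x : Bˣ) : Γ := s.p x * s.q (-(x⁻¹ : Bˣ)) * s.p x

lemma w_neg (x : Bˣ) : s.w (-x) = (s.w x)⁻¹ := by
  unfold w
  rw [mul_inv_rev, mul_inv_rev, ← s.p_neg, ← s.q_neg, ← mul_assoc]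
  simp

/-- `w(ux) = h(u) w(x)` -/
lemma w_mul (u x : Bˣ) : s.w (u * x) = s.h u * s.w x := by
  have h1 := s.F' ((1 - u) * x) (-(x⁻¹ : Bˣ)) ((u⁻¹ : Bˣ) * ((1 - u) * x)) ((u⁻¹ : Bˣ) * -(x⁻¹ : Bˣ)) u
    (by rw [mul_assoc, mul_neg, Units.mul_inv]; ring)
    (by rw [mul_comm, ← mul_assoc, Units.mul_inv, one_mul])
    (by rw [mul_comm, ← mul_assoc, Units.mul_inv, one_mul])
  have h2 : s.p (x : B) = s.p ((1 - u) * x) * s.p (u * x) := by rw [← s.p_add]; congr 1; ring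
  have h3 := s.hp u ((u⁻¹ : Bˣ) * x)
  have h4 : (u : B) * u * ((u⁻¹ : Bˣ) * x) = u * x := by
    rw [mul_assoc, ← mul_assoc (u : B) ((u⁻¹ : Bˣ) : B), Units.mul_inv, one_mul]
  have h5 : s.p (x : B) * s.p ((u⁻¹ : Bˣ) * ((1 - u) * x)) = s.p ((u⁻¹ : Bˣ) * x) := by
    rw [← s.p_add]
    congr 1
    linear_combination (-(x : B)) * (Units.inv_mul u)
  rw [h4] at h3
  have h6 : s.w x = s.p ((u⁻¹ : Bˣ) * x) * (s.h u)⁻¹ * s.q ((u⁻¹ : Bˣ) * -(x⁻¹ : Bˣ)) * s.p (u * x) := by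
    rw [w]
    nth_rw 2 [h2]
    rw [mul_assoc (s.p (x : B)), ← mul_assoc (s.q _), h1, ← h5]
    simp only [mul_assoc]
  have h7 : s.p ((u⁻¹ : Bˣ) * x) * (s.h u)⁻¹ = (s.h u)⁻¹ * s.p (u * x) := by
    rw [mul_inv_eq_iff_eq_mul, mul_assoc, ← h3, inv_mul_cancel_left]
  have h8 : ((u⁻¹ : Bˣ) : B) * -(x⁻¹ : Bˣ) = -((u * x)⁻¹ : Bˣ) := by
    rw [mul_inv, Units.val_mul]; ring
  rw [h6, h7, h8, w, Units.val_mul]
  group

/-- `w(ux) = w(x) h(u)⁻¹` -/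
lemma w_mul' (u x : Bˣ) : s.w (u * x) = s.w x * (s.h u)⁻¹ := by
  have h1 := s.w_mul u (-x)
  rw [mul_neg, s.w_neg, s.w_neg] at h1
  have h2 := congrArg (fun g : Γ => g⁻¹) h1
  simpa using h2

lemma w_eq (x : Bˣ) : s.w x = s.h x * s.w 1 := by
  rw [← s.w_mul, mul_one]

/-- `w(x) w(y) = h(-x/y)` -/
lemma w_mul_w (x y : Bˣ) : s.w x * s.w y = s.h (-x * y⁻¹) := by
  have h1 : s.w x = s.h (-x * y⁻¹) * s.w (-y) := by
    rw [← s.w_mul]; congr 1; rw [mul_assoc, mul_neg, inv_mul_cancel]; simp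
  rw [h1, s.w_neg, inv_mul_cancel_right]

/-- `w(x) p(σ x) w(x)⁻¹ = q(-σ / x)` when `1 - σ` is invertible -/
lemma w_conj_p_aux (x : Bˣ) (σ : B) (v : Bˣ) (hv : (v : B) = 1 - σ) :
    s.w x * s.p (σ * x) = s.q (-σ * (x⁻¹ : Bˣ)) * s.w x := by
  -- `u = v⁻¹`, `σ = 1 - u⁻¹`
  have h1 := s.F x (((v⁻¹ : Bˣ) - 1) * (x⁻¹ : Bˣ)) (x * v) ((1 - v) * (x⁻¹ : Bˣ)) v⁻¹
    (by linear_combination (1 - (v⁻¹ : Bˣ) : B) * (Units.mul_inv x))
    (by rw [mul_assoc, Units.mul_inv, mul_one])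
    (by linear_combination (-((x⁻¹ : Bˣ) : B)) * (Units.mul_inv v))
  have h2 : s.q (-(x⁻¹ : Bˣ)) = s.q (((v⁻¹ : Bˣ) - 1) * (x⁻¹ : Bˣ)) * s.q (-(v⁻¹ * x⁻¹ : Bˣ)) := by
    rw [← s.q_add]; congr 1; rw [Units.val_mul]; ring
  have h3 : s.p (x : B) = s.p ((v * x : Bˣ) : B) * s.p (σ * x) := by
    rw [← s.p_add, Units.val_mul, hv]; congr 1; ring
  have h4 : s.w x = s.q ((1 - v) * (x⁻¹ : Bˣ)) * s.h v⁻¹ * s.w (v * x) * s.p (σ * x) := by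
    have h5 : s.w x = s.p x * s.q (-(x⁻¹ : Bˣ)) * s.p x := rfl
    rw [h5, h2]
    nth_rw 2 [h3]
    rw [← mul_assoc (s.p x), h1, w, mul_inv_rev, mul_comm (v⁻¹ : Bˣ) (x⁻¹ : Bˣ),
      show (x : B) * v = ((v * x : Bˣ) : B) by rw [Units.val_mul]; ring]
    simp only [mul_assoc]
  have h6 : s.h v⁻¹ * s.w (v * x) = s.w x := by
    rw [s.w_mul, s.h_inv, inv_mul_cancel_left]
  rw [mul_assoc (s.q _), h6] at h4
  have h7 : s.q (-σ * (x⁻¹ : Bˣ)) * s.q ((1 - v) * (x⁻¹ : Bˣ)) = 1 := by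
    rw [← s.q_add, hv, ← s.q_zero]; congr 1; ring
  conv_rhs => rw [h4]
  rw [mul_assoc (s.q _), ← mul_assoc (s.q (-σ * _)), h7, one_mul]

/-- `w(x) p(σ x) w(x)⁻¹ = q(-σ / x)` when `σ` is a sum of two elements with `1 - σᵢ` invertible -/
lemma w_conj_p (x : Bˣ) (σ σ₁ σ₂ : B) (hσ : σ = σ₁ + σ₂) (h₁ : IsUnit (1 - σ₁)) (h₂ : IsUnit (1 - σ₂)) :
    s.w x * s.p (σ * x) = s.q (-σ * (x⁻¹ : Bˣ)) * s.w x := by
  obtain ⟨v₁, hv₁⟩ := h₁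
  obtain ⟨v₂, hv₂⟩ := h₂
  have e₁ := s.w_conj_p_aux x σ₁ v₁ hv₁
  have e₂ := s.w_conj_p_aux x σ₂ v₂ hv₂
  rw [hσ, add_mul, s.p_add, ← mul_assoc, e₁, mul_assoc, e₂, ← mul_assoc, ← s.q_add]
  congr 2; ring

/-- the coroot in terms of the root groups -/
lemma h_eq (z : Bˣ) : s.h z = s.q ((z⁻¹ : Bˣ) - 1) * s.p 1 * s.q (z - 1) * s.p (-(z⁻¹ : Bˣ)) := by
  have h1 := s.F 1 (z - 1) (z⁻¹ : Bˣ) (1 - (z⁻¹ : Bˣ)) z (by ring) (Units.inv_mul z)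
    (by rw [sub_mul, Units.inv_mul, one_mul])
  rw [mul_assoc (s.q ((z⁻¹ : Bˣ) - 1)), h1, s.p_neg]
  have h2 : s.q ((z⁻¹ : Bˣ) - 1) * s.q (1 - (z⁻¹ : Bˣ)) = 1 := by
    rw [← s.q_add, ← s.q_zero]; congr 1; ring
  rw [← mul_assoc, ← mul_assoc, h2, one_mul, mul_inv_cancel_right]

end Sys

end K214.RankOne
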