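import Groth.Agent.Red.K214.RankOnePts
import Groth.Agent.Red.K214.GmSq
import Groth.Agent.Red.K212.Weight
import Groth.Agent.Sga3B.MaxTorNear900
import Groth.Agent.Sga3B.BorSpan613
import Groth.Agent.Sga3B.Pts

/-!
# Homomorphisms between rank one systems

`f : G ⟶ G'` with `f(p₊(x)) = p'₊(c x^q)`, `q` a power of the characteristic exponent.
-/

set_option autoImplicit false
universe u
open CategoryTheory MonoidalCategory CartesianMonoidalCategory MonObj GrpObj AlgebraicGeometry Limits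

namespace K214.RankOneHom

open Groth.Agent.Sga3B.DSPts Groth.Agent.Sga3B.GaPts Groth.Agent.Sga3.H811.Pts
open K214.Basic K214.RankOne K214.RankOnePts

variable {S : Scheme.{u}} {G T : Over S} [GrpObj G] [GrpObj T]
  {i : T ⟶ G} {α : T ⟶ Red.Gm S} {pp pm : Red.Ga S ⟶ G} {av : Red.Gm S ⟶ T}
  (H : Hyp i α pp pm av)
  {G' T' : Over S} [GrpObj G'] [GrpObj T']
  {i' : T' ⟶ G'} {α' : T' ⟶ Red.Gm S} {pp' pm' : Red.Ga S ⟶ G'} {av' : Red.Gm S ⟶ T'}
  (H' : Hyp i' α' pp' pm' av')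
  {q : ℕ} (hq0 : 0 < q) (hq : ∀ (X : Over S) (a b : Γ(X.left, ⊤)), (a + b) ^ q = a ^ q + b ^ q)
  (c : 𝟙_ (Over S) ⟶ Red.Gm S) (f : G ⟶ G') [IsMonHom f]

/-- the unit `c` -/
noncomputable def cu (X : Over S) : Γ(X.left, ⊤)ˣ := (isUnit_gmFn (toUnit X ≫ c)).unit

lemma cu_val (X : Over S) : (cu c X : Γ(X.left, ⊤)) = Red.gmFn (toUnit X ≫ c) := rfl

lemma cu_nat {X X' : Over S} (g : X' ⟶ X) : g.left.appTop (cu c X : Γ(X.left, ⊤)) = cu c X' := by
  rw [cu_val, cu_val, ← gmFn_comp, comp_toUnit_assoc]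

/-- `(i)` -/
def P1 : Prop := ∀ (X : Over S) (u : Γ(X.left, ⊤)ˣ), (ptSys H X).h u ≫ f = (ptSys H' X).h (u ^ q)

/-- `(ii)` -/
def P2 : Prop := ∀ (X : Over S) (u : Γ(X.left, ⊤)ˣ),
  (ptSys H X).w u ≫ f = (ptSys H' X).w (cu c X * u ^ q)

/-- `(iii)` -/
def P3 : Prop := ∀ (X : Over S) (y : Γ(X.left, ⊤)),
  (ptSys H X).q y ≫ f = (ptSys H' X).q (((cu c X)⁻¹ : Γ(X.left, ⊤)ˣ) * y ^ q)

variable (hf : ∀ (X : Over S) (x : Γ(X.left, ⊤)),
  (ptSys H X).p x ≫ f = (ptSys H' X).p (cu c X * x ^ q))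

include hq0 hq in
lemma neg_one_pow_q (X : Over S) : (-1 : Γ(X.left, ⊤)) ^ q = -1 := by
  have h := hq X 1 (-1)
  rw [add_neg_cancel, zero_pow hq0.ne', one_pow] at h
  linear_combination -h

include hf hq0 hq in
theorem p2_of_p3 (h : P3 (q := q) H H' c f) : P2 (q := q) H H' c f := by
  intro X u
  rw [Sys.w, Sys.w, MonObj.mul_comp, MonObj.mul_comp, hf, h]
  congr 3
  rw [neg_pow, neg_one_pow_q hq0 hq, _root_.mul_inv, Units.val_mul, ← Units.val_pow_eq_pow_val,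
    inv_pow]
  ring

theorem p1_of_p2 (h : P2 (q := q) H H' c f) : P1 (q := q) H H' f := by
  intro X u
  have h1 := h X u
  have h2 := h X 1
  rw [(ptSys H X).w_eq u, MonObj.mul_comp, h2, one_pow, _root_.mul_one, mul_comm (cu c X),
    (ptSys H' X).w_mul] at h1
  exact mul_right_cancel h1

/-- the Weyl element `w'(1)` over `S` -/
noncomputable def nW : 𝟙_ (Over S) ⟶ G' := (ptSys H' (𝟙_ (Over S))).w 1

lemma nW_comp (X : Over S) : toUnit X ≫ nW H' = (ptSys H' X).w 1 := by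
  rw [nW, comp_w, map_one]

/-- `x ↦ w'(1) f(p₋(x)) w'(1)⁻¹` -/
noncomputable def pC (pm : Red.Ga S ⟶ G) : Red.Ga S ⟶ G' :=
  (toUnit _ ≫ nW H') * (pm ≫ f) * (toUnit _ ≫ nW H')⁻¹

omit [GrpObj G] [IsMonHom f] in
lemma comp_pC {X : Over S} (x : X ⟶ Red.Ga S) :
    x ≫ pC H' f pm = (ptSys H' X).w 1 * (x ≫ pm ≫ f) * ((ptSys H' X).w 1)⁻¹ := by
  rw [pC, MonObj.comp_mul, MonObj.comp_mul, GrpObj.comp_inv, comp_toUnit_assoc, nW_comp]

include H in
lemma isMonHom_pC : IsMonHom (pC H' f pm) := by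
  have := H.mpm
  apply Groth.Agent.Sga3B.Pts.isMonHom_of_points
  intro X x y
  rw [comp_pC, comp_pC, comp_pC, ← Category.assoc, MonObj.mul_comp, MonObj.mul_comp,
    Category.assoc, Category.assoc]
  group

include H in
lemma hasWeight (h : P1 (q := q) H H' f) :
    K212.Weight.HasWeight i' α' av' q (pC H' f pm) := by
  intro X t x x' hx
  rw [comp_pC, comp_pC]
  obtain ⟨u, hu⟩ := isUnit_gmFn t
  have ht : t = gmPt X u := by
    apply gmFn_injective; rw [gmFn_gmPt, hu]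
  have h1 : Red.gmFn (t ≫ av' ≫ α') = u * u := by
    rw [ht, ← Category.assoc, gmFn_av H'.h2]
  have e1 : t ≫ av' ≫ i' = (ptSys H' X).h u := by rw [ptSys_h, ht]
  have e2 : x ≫ pm = (ptSys H X).q (Red.gaFn x) := by rw [ptSys_q, gaPt_gaFn]
  have e3 : x' ≫ pm = (ptSys H X).q (u * u * Red.gaFn x) := by
    rw [ptSys_q, ← h1, ← hx, gaPt_gaFn]
  rw [e1, ← Category.assoc, ← Category.assoc, e2, e3]
  have e4 : (ptSys H X).q (u * u * Red.gaFn x) =
      ((ptSys H X).h u)⁻¹ * (ptSys H X).q (Red.gaFn x) * (ptSys H X).h u := by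
    rw [_root_.mul_assoc ((ptSys H X).h u)⁻¹, ← (ptSys H X).hq, inv_mul_cancel_left]
  have e5 : (ptSys H' X).w 1 * ((ptSys H' X).h (u ^ q))⁻¹ = (ptSys H' X).h (u ^ q) * (ptSys H' X).w 1 := by
    rw [← (ptSys H' X).w_mul', (ptSys H' X).w_mul]
  have e6 : ∀ n : ℕ, (ptSys H' X).h (u ^ n) = ((ptSys H' X).h u) ^ n := by
    intro n
    induction n with
    | zero => rw [_root_.pow_zero, _root_.pow_zero, (ptSys H' X).h_one]
    | succ n ih => rw [_root_.pow_succ, _root_.pow_succ, (ptSys H' X).h_mul, ih]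
  rw [e4, MonObj.mul_comp, MonObj.mul_comp, GrpObj.inv_comp, h, ← e6]
  set A := (ptSys H X).q (Red.gaFn x) ≫ f
  set w := (ptSys H' X).w 1
  set k := (ptSys H' X).h (u ^ q)
  have e7 : k * w⁻¹ = w⁻¹ * k⁻¹ := by
    have := congrArg (fun g => g⁻¹) e5
    simp only [_root_.mul_inv_rev, _root_.inv_inv] at this
    exact this
  calc w * (k⁻¹ * A * k) * w⁻¹ = (w * k⁻¹) * A * (k * w⁻¹) := by group
    _ = (k * w) * A * (w⁻¹ * k⁻¹) := by rw [e5, e7]
    _ = _ := by group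

lemma w_inv_conj_p (X : Over S) (σ : Γ(X.left, ⊤)) :
    ((ptSys H' X).w 1)⁻¹ * (ptSys H' X).p σ * (ptSys H' X).w 1 = (ptSys H' X).q (-σ) := by
  have h1 := w_conj_p H' X (-1) (-σ)
  have h2 : (-σ) * ((-1 : Γ(X.left, ⊤)ˣ) : Γ(X.left, ⊤)) = σ := by simp
  have h3 : -(-σ) * (((-1 : Γ(X.left, ⊤)ˣ)⁻¹ : Γ(X.left, ⊤)ˣ) : Γ(X.left, ⊤)) = -σ := by
    have : ((-1 : Γ(X.left, ⊤)ˣ)⁻¹ : Γ(X.left, ⊤)ˣ) = -1 := by simp
    rw [this]; simp
  rw [h2, h3, (ptSys H' X).w_neg] at h1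
  rw [h1, inv_mul_cancel_right]

include hf hq0 hq in
theorem p3_of_p1 (hT' : Red.IsTorus T') (hΩ' : IsOpenImmersion (cell i' pp' pm').left)
    [hα' : IsMonHom α'] (h : P1 (q := q) H H' f) : P3 (q := q) H H' c f := by
  have := H'.mi
  have := H'.mpp
  have := H'.mpm
  have := H'.mav
  have := isMonHom_pC H H' f
  have hcomm := Groth.Agent.Sga3B.MaxTorNear900.mul_comm_of_isTorus hT'
  have hmono : Mono (cell i' pp' pm') := Over.mono_of_mono_left _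
  obtain ⟨ν, hν⟩ := K212.Weight.exists_nu (Q := Red.Gm S) (j := av') (q := q) hcomm H'.hpp H'.hpm
    hΩ' (Groth.Agent.Sga3B.BorSpan613.isTorus_Gm S)
    (by rw [H'.h2]; exact GmSq.sq_map_ne_one) (hasWeight H H' f h)
  let d : ∀ X : Over S, Γ(X.left, ⊤) := fun X => -(Red.gaFn (toUnit X ≫ ν))
  have hd : ∀ {X X' : Over S} (g : X' ⟶ X), g.left.appTop (d X) = d X' := by
    intro X X' g
    change g.left.appTop (-(Red.gaFn (toUnit X ≫ ν))) = -(Red.gaFn (toUnit X' ≫ ν))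
    rw [map_neg, ← gaFn_comp, comp_toUnit_assoc]
  have h1 : ∀ (X : Over S) (y : Γ(X.left, ⊤)),
      (ptSys H X).q y ≫ f = (ptSys H' X).q (d X * y ^ q) := by
    intro X y
    have e1 := hν X y
    rw [comp_pC, ← Category.assoc] at e1
    have e2 := w_inv_conj_p H' X (Red.gaFn (toUnit X ≫ ν) * y ^ q)
    rw [ptSys_p, ← e1] at e2
    have e3 : ((ptSys H' X).w 1)⁻¹ * ((ptSys H' X).w 1 * ((gaPt X y ≫ pm) ≫ f) *
      ((ptSys H' X).w 1)⁻¹) * (ptSys H' X).w 1 = (gaPt X y ≫ pm) ≫ f := by group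
    rw [e3] at e2
    rw [ptSys_q, e2]
    congr 1
    simp only [d]
    ring
  have h2 : ∀ X : Over S, (cu c X : Γ(X.left, ⊤)) * d X = 1 := by
    intro X
    have key : gaPt X ((cu c X : Γ(X.left, ⊤)) * d X) = gaPt X 1 := by
      refine eq_of_flat_unit _ _ (Polynomial.X * (Polynomial.X + Polynomial.C 1) *
        (Polynomial.X ^ q + Polynomial.C ((cu c X : Γ(X.left, ⊤)) * d X)))
        ((Polynomial.monic_X.mul (Polynomial.monic_X_add_C _)).mul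
          (Polynomial.monic_X_pow_add_C _ hq0.ne')) fun X' g v hv => ?_
      rw [comp_gaPt, comp_gaPt]
      congr 1
      rw [Polynomial.eval₂_mul, Polynomial.eval₂_mul, Polynomial.eval₂_add, Polynomial.eval₂_add,
        Polynomial.eval₂_pow, Polynomial.eval₂_X, Polynomial.eval₂_C, Polynomial.eval₂_C,
        IsUnit.mul_iff, IsUnit.mul_iff, map_one] at hv
      obtain ⟨⟨⟨v, rfl⟩, ⟨v₁, hv₁⟩⟩, ⟨v₂, hv₂⟩⟩ := hv
      have hcd : g.left.appTop ((cu c X : Γ(X.left, ⊤)) * d X) = cu c X' * d X' := by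
        rw [map_mul, hd]
        congr 1
        exact cu_nat c g
      have hv₂' : (v₂ : Γ(X'.left, ⊤)) = (v : Γ(X'.left, ⊤)) ^ q + cu c X' * d X' := by
        rw [hv₂]
        congr 1
      rw [hcd, map_one]
      -- the units `1 + y`, `1 + c d y^q` for `y = v⁻¹`
      let s := ptSys H X'
      let s' := ptSys H' X'
      let C : Γ(X'.left, ⊤)ˣ := cu c X'
      let y : Γ(X'.left, ⊤)ˣ := v⁻¹
      have hvy : (v : Γ(X'.left, ⊤)) * y = 1 := Units.mul_inv v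
      have hu : ((v₁ * y : Γ(X'.left, ⊤)ˣ) : Γ(X'.left, ⊤)) = 1 + 1 * y := by
        rw [Units.val_mul, hv₁]
        linear_combination hvy
      have hvy' : (v : Γ(X'.left, ⊤)) ^ q * (y : Γ(X'.left, ⊤)) ^ q = 1 := by
        rw [← mul_pow, hvy, one_pow]
      have hu' : ((v₂ * y ^ q : Γ(X'.left, ⊤)ˣ) : Γ(X'.left, ⊤)) =
          1 + C * (d X' * (y : Γ(X'.left, ⊤)) ^ q) := by
        rw [Units.val_mul, Units.val_pow_eq_pow_val, hv₂']
        linear_combination hvy'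
      set u := v₁ * y
      set u' := v₂ * y ^ q
      have f1 := s.F 1 y ((u⁻¹ : Γ(X'.left, ⊤)ˣ) : Γ(X'.left, ⊤)) (y * (u⁻¹ : Γ(X'.left, ⊤)ˣ)) u hu
        (Units.inv_mul u) (by rw [_root_.mul_assoc, Units.inv_mul, _root_.mul_one])
      have f2 := congrArg (fun k => k ≫ f) f1
      simp only [MonObj.mul_comp] at f2
      have e1 := hf X' 1
      rw [one_pow, _root_.mul_one] at e1
      rw [e1, h1, h1, h, hf] at f2
      have f3 := s'.F C (d X' * (y : Γ(X'.left, ⊤)) ^ q) (C * (u'⁻¹ : Γ(X'.left, ⊤)ˣ))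
        (d X' * (y : Γ(X'.left, ⊤)) ^ q * (u'⁻¹ : Γ(X'.left, ⊤)ˣ)) u' hu'
        (by rw [_root_.mul_assoc, Units.inv_mul, _root_.mul_one])
        (by rw [_root_.mul_assoc, Units.inv_mul, _root_.mul_one])
      have d1 : DecX i' pp' pm' X' C (d X' * (y : Γ(X'.left, ⊤)) ^ q)
          (d X' * (y * (u⁻¹ : Γ(X'.left, ⊤)ˣ)) ^ q) (C * ((u⁻¹ : Γ(X'.left, ⊤)ˣ) : Γ(X'.left, ⊤)) ^ q)
          (gmPt X' (u ^ q) ≫ av') := by
        rw [DecX, Category.assoc]; exact f2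
      have d2 : DecX i' pp' pm' X' C (d X' * (y : Γ(X'.left, ⊤)) ^ q)
          (d X' * (y : Γ(X'.left, ⊤)) ^ q * (u'⁻¹ : Γ(X'.left, ⊤)ˣ)) (C * (u'⁻¹ : Γ(X'.left, ⊤)ˣ))
          (gmPt X' u' ≫ av') := by
        rw [DecX, Category.assoc]; exact f3
      obtain ⟨-, e2, -⟩ := d1.uniq d2
      -- `c u^{-q} = c u'⁻¹`
      have e3 : ((u⁻¹ : Γ(X'.left, ⊤)ˣ) : Γ(X'.left, ⊤)) ^ q = ((u'⁻¹ : Γ(X'.left, ⊤)ˣ) : Γ(X'.left, ⊤)) :=
        C.isUnit.mul_left_cancel e2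
      have e4 : u' = u ^ q := by
        apply inv_injective
        apply Units.ext
        rw [← e3, ← Units.val_pow_eq_pow_val, inv_pow]
      have e5 : (u' : Γ(X'.left, ⊤)) = (u : Γ(X'.left, ⊤)) ^ q := by
        rw [e4, Units.val_pow_eq_pow_val]
      rw [hu, hu', _root_.one_mul, hq, one_pow] at e5
      have e6 : ((y ^ q : Γ(X'.left, ⊤)ˣ) : Γ(X'.left, ⊤)) * (C * d X') =
          ((y ^ q : Γ(X'.left, ⊤)ˣ) : Γ(X'.left, ⊤)) * 1 := by
        rw [Units.val_pow_eq_pow_val]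
        linear_combination e5
      exact (y ^ q).isUnit.mul_left_cancel e6
    have := congrArg Red.gaFn key
    simpa using this
  intro X y
  rw [h1]
  congr 2
  have h3 := h2 X
  have h4 : ((cu c X)⁻¹ : Γ(X.left, ⊤)ˣ) * ((cu c X : Γ(X.left, ⊤)) * d X) = d X := by
    rw [← _root_.mul_assoc, Units.inv_mul, _root_.one_mul]
  rw [← h4, h3, _root_.mul_one]

end K214.RankOneHom
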