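import Groth.Agent.Red.K214.RankOne
import Groth.Agent.Red.K214.FlatUnit
import Groth.Agent.Red.K214.Basic
import Groth.Agent.Sga3.H811.Lift

/-!
# The rank one system of the points of a group scheme

`ptSys H X : Sys Γ(X, ⊤) (X ⟶ G)` for the rank one hypotheses `H`; conjugation by `w(x)`.
-/

set_option autoImplicit false
universe u
open CategoryTheory MonoidalCategory CartesianMonoidalCategory MonObj GrpObj AlgebraicGeometry Limits

namespace K214.RankOnePts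

open Groth.Agent.Sga3B.DSPts Groth.Agent.Sga3B.GaPts Groth.Agent.Sga3.H811.Pts
open K214.Basic K214.RankOne

variable {S : Scheme.{u}} {G T : Over S} [GrpObj G] [GrpObj T]

/-- The rank one hypotheses, bundled. -/
structure Hyp (i : T ⟶ G) (α : T ⟶ Red.Gm S) (pp pm : Red.Ga S ⟶ G) (av : Red.Gm S ⟶ T) : Prop where
  mi : IsMonHom i
  mpp : IsMonHom pp
  mpm : IsMonHom pm
  mav : IsMonHom av
  hpp : NormP i α pp
  hpm : NormM i α pm
  h2 : av ≫ α = (𝟙 (Red.Gm S)) ^ 2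
  hF : ∀ (X : Over S) (x y : X ⟶ Red.Ga S), IsUnit (1 + Red.gaFn x * Red.gaFn y) →
      ∃ (x' y' : X ⟶ Red.Ga S) (z : X ⟶ Red.Gm S), Red.gmFn z = 1 + Red.gaFn x * Red.gaFn y ∧
        Red.gaFn x' * Red.gmFn z = Red.gaFn x ∧ Red.gaFn y' * Red.gmFn z = Red.gaFn y ∧
        (x ≫ pp) * (y ≫ pm) = (y' ≫ pm) * (z ≫ av ≫ i) * (x' ≫ pp)

lemma gmPt_mul (X : Over S) (u v : Γ(X.left, ⊤)ˣ) : gmPt X (u * v) = gmPt X u * gmPt X v := by
  apply gmFn_injective
  rw [gmFn_mul, gmFn_gmPt, gmFn_gmPt, gmFn_gmPt, Units.val_mul]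

lemma gmPt_gmFn {X : Over S} (z : X ⟶ Red.Gm S) (u : Γ(X.left, ⊤)ˣ) (h : (u : Γ(X.left, ⊤)) = Red.gmFn z) :
    gmPt X u = z := by
  apply gmFn_injective
  rw [gmFn_gmPt, h]

lemma comp_gmPt {X X' : Over S} (f : X' ⟶ X) (u : Γ(X.left, ⊤)ˣ) :
    f ≫ gmPt X u = gmPt X' (Units.map (f.left.appTop.hom : _ →* _) u) := by
  apply gmFn_injective
  rw [gmFn_comp, gmFn_gmPt, gmFn_gmPt]
  rfl

variable {i : T ⟶ G} {α : T ⟶ Red.Gm S} {pp pm : Red.Ga S ⟶ G} {av : Red.Gm S ⟶ T}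

omit [GrpObj G] [GrpObj T] in
lemma gmFn_av (h2 : av ≫ α = (𝟙 (Red.Gm S)) ^ 2) {X : Over S} (u : Γ(X.left, ⊤)ˣ) :
    Red.gmFn ((gmPt X u ≫ av) ≫ α) = u * u := by
  rw [Category.assoc, h2, MonObj.comp_pow, Category.comp_id, gmFn_pow, gmFn_gmPt, sq]

omit [GrpObj G] [GrpObj T] in
/-- Two points are equal if they are so after a flat covering family on which a value of a given
monic polynomial is invertible. -/
lemma eq_of_flat_unit {X Y : Over S} (a b : X ⟶ Y) (f : Polynomial Γ(X.left, ⊤)) (hf : f.Monic)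
    (h : ∀ (X' : Over S) (g : X' ⟶ X) (v : Γ(X'.left, ⊤)),
      IsUnit (f.eval₂ g.left.appTop.hom v) → g ≫ a = g ≫ b) : a = b := by
  apply Over.OverMorphism.ext
  refine Groth.Agent.Sga3.H811.Lift.eq_of_flat_family _ _ fun x => ?_
  obtain ⟨Z, g, v, h1, h2, h3⟩ := K214.FlatUnit.exists_unit X.left x f hf
  refine ⟨Z, g, h1, h2, ?_⟩
  have := h (Over.mk (g ≫ X.hom)) (Over.homMk g rfl) v h3
  exact congrArg CommaMorphism.left this

variable (H : Hyp i α pp pm av)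
include H

/-- the rank one system of the `X`-points of `G` -/
noncomputable def ptSys (X : Over S) : Sys Γ(X.left, ⊤) (X ⟶ G) where
  p x := gaPt X x ≫ pp
  q y := gaPt X y ≫ pm
  h u := gmPt X u ≫ av ≫ i
  p_add x y := by
    have := H.mpp
    rw [gaPt_add, MonObj.mul_comp]
  q_add x y := by
    have := H.mpm
    rw [gaPt_add, MonObj.mul_comp]
  h_mul u v := by
    have := H.mi
    have := H.mav
    rw [gmPt_mul, MonObj.mul_comp]
  hp u x := by
    rw [← Category.assoc]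
    exact commP H.hpp _ (by rw [gaFn_gaPt, gaFn_gaPt, gmFn_av H.h2])
  hq u y := by
    rw [← Category.assoc]
    exact commM H.hpm _ (by rw [gaFn_gaPt, gaFn_gaPt, gmFn_av H.h2]; ring)
  F x y x' y' u hu hx hy := rule H.hF (by rw [gmFn_gmPt, gaFn_gaPt, gaFn_gaPt, hu])
    (by rw [gmFn_gmPt, gaFn_gaPt, gaFn_gaPt, hx]) (by rw [gmFn_gmPt, gaFn_gaPt, gaFn_gaPt, hy])

lemma ptSys_p (X : Over S) (x : Γ(X.left, ⊤)) : (ptSys H X).p x = gaPt X x ≫ pp := rfl
lemma ptSys_q (X : Over S) (x : Γ(X.left, ⊤)) : (ptSys H X).q x = gaPt X x ≫ pm := rfl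
lemma ptSys_h (X : Over S) (u : Γ(X.left, ⊤)ˣ) : (ptSys H X).h u = gmPt X u ≫ av ≫ i := rfl

lemma comp_p {X X' : Over S} (f : X' ⟶ X) (x : Γ(X.left, ⊤)) :
    f ≫ (ptSys H X).p x = (ptSys H X').p (f.left.appTop x) := by
  rw [ptSys_p, ptSys_p, ← Category.assoc, comp_gaPt]

lemma comp_q {X X' : Over S} (f : X' ⟶ X) (x : Γ(X.left, ⊤)) :
    f ≫ (ptSys H X).q x = (ptSys H X').q (f.left.appTop x) := by
  rw [ptSys_q, ptSys_q, ← Category.assoc, comp_gaPt]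

lemma comp_h {X X' : Over S} (f : X' ⟶ X) (u : Γ(X.left, ⊤)ˣ) :
    f ≫ (ptSys H X).h u = (ptSys H X').h (Units.map (f.left.appTop.hom : _ →* _) u) := by
  rw [ptSys_h, ptSys_h, ← Category.assoc, comp_gmPt]

lemma comp_w {X X' : Over S} (f : X' ⟶ X) (u : Γ(X.left, ⊤)ˣ) :
    f ≫ (ptSys H X).w u = (ptSys H X').w (Units.map (f.left.appTop.hom : _ →* _) u) := by
  rw [Sys.w, Sys.w, MonObj.comp_mul, MonObj.comp_mul, comp_p, comp_q, ← map_inv]
  congr 3
  rw [map_neg]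
  rfl

/-- **Conjugation of the positive root group by `w(x)`**: `w(x) p(σ x) = q(-σ / x) w(x)`. -/
theorem w_conj_p (X : Over S) (x : Γ(X.left, ⊤)ˣ) (σ : Γ(X.left, ⊤)) :
    (ptSys H X).w x * (ptSys H X).p (σ * x) = (ptSys H X).q (-σ * (x⁻¹ : Γ(X.left, ⊤)ˣ)) * (ptSys H X).w x := by
  -- `v` and `v - (2 - σ)` are invertible
  refine eq_of_flat_unit _ _ (Polynomial.X * (Polynomial.X - Polynomial.C (2 - σ)))
    (Polynomial.monic_X.mul (Polynomial.monic_X_sub_C _)) fun X' g v hv => ?_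
  rw [MonObj.comp_mul, MonObj.comp_mul, comp_p, comp_q, comp_w]
  rw [Polynomial.eval₂_mul, Polynomial.eval₂_X, Polynomial.eval₂_sub, Polynomial.eval₂_X,
    Polynomial.eval₂_C, IsUnit.mul_iff] at hv
  have h1 := (ptSys H X').w_conj_p (Units.map (g.left.appTop.hom : _ →* _) x)
    (g.left.appTop σ) (1 - v) (g.left.appTop σ - 1 + v) (by ring)
    (by have : (1 : Γ(X'.left, ⊤)) - (1 - v) = v := by ring
        rw [this]; exact hv.1)
    (by
      have : (1 : Γ(X'.left, ⊤)) - (g.left.appTop σ - 1 + v) = -(v - g.left.appTop.hom (2 - σ)) := by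
        rw [map_sub, map_ofNat]
        ring_nf
      rw [this]
      exact hv.2.neg)
  rw [map_mul, map_mul, map_neg]
  exact h1

/-- `w(x) p(x) = q(-1/x) w(x)` -/
lemma w_mul_p (X : Over S) (x : Γ(X.left, ⊤)ˣ) :
    (ptSys H X).w x * (ptSys H X).p x = (ptSys H X).q (-(x⁻¹ : Γ(X.left, ⊤)ˣ)) * (ptSys H X).w x := by
  have h := w_conj_p H X x 1
  rwa [_root_.one_mul, neg_mul, _root_.one_mul] at h

/-- `(w(x) p(x))³ = 1` -/
lemma w_mul_p_cube (X : Over S) (x : Γ(X.left, ⊤)ˣ) :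
    ((ptSys H X).w x * (ptSys H X).p x) ^ 3 = 1 := by
  set s := ptSys H X with hs
  have h1 := w_mul_p H X x
  rw [← hs] at h1
  set p := s.p x with hp
  set q := s.q (-(x⁻¹ : Γ(X.left, ⊤)ˣ)) with hq
  set w := s.w x with hw
  have hw' : w = p * q * p := rfl
  -- the braid relation
  have h2 : p * q * p = q * p * q := by
    have h3 : p * q * p * p = q * p * q * p := by
      rw [hw'] at h1
      rw [h1]; simp only [_root_.mul_assoc]
    exact mul_right_cancel h3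
  have h3 : w * w = s.h (-1) := by
    rw [hw, s.w_mul_w]; congr 1
    rw [neg_mul, mul_inv_cancel]
  have h4 : w * w * p = p * (w * w) := by
    rw [h3, hp, s.hp]; congr 2
    simp
  have h5 : w * w * (w * w) = 1 := by
    rw [h3, ← s.h_mul, neg_mul_neg, _root_.one_mul, s.h_one]
  have h6 : w * p * (w * p) * (w * p) = q * p * q * w * (w * w) := by
    calc w * p * (w * p) * (w * p) = q * w * (w * p) * (w * p) := by rw [h1]
      _ = q * (w * w * p) * (w * p) := by simp only [_root_.mul_assoc]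
      _ = q * (p * (w * w)) * (w * p) := by rw [h4]
      _ = q * p * w * (w * w * p) := by simp only [_root_.mul_assoc]
      _ = q * p * (w * p) * (w * w) := by rw [h4]; simp only [_root_.mul_assoc]
      _ = q * p * q * w * (w * w) := by rw [h1]; simp only [_root_.mul_assoc]
  rw [_root_.pow_succ, _root_.pow_succ, _root_.pow_one, h6, ← h2, ← hw', ← h5,
    _root_.mul_assoc]

/-- `w(x)` in terms of points -/
lemma w_eq {X : Over S} {x x' : X ⟶ Red.Ga S} (hx : Red.gaFn x' * Red.gaFn x = -1) :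
    ∃ u : Γ(X.left, ⊤)ˣ, (u : Γ(X.left, ⊤)) = Red.gaFn x ∧ -((u⁻¹ : Γ(X.left, ⊤)ˣ) : Γ(X.left, ⊤)) = Red.gaFn x' ∧
      (ptSys H X).w u = (x ≫ pp) * (x' ≫ pm) * (x ≫ pp) ∧
      (ptSys H X).p u = x ≫ pp ∧ (ptSys H X).q (-((u⁻¹ : Γ(X.left, ⊤)ˣ) : Γ(X.left, ⊤))) = x' ≫ pm := by
  let u : Γ(X.left, ⊤)ˣ := ⟨Red.gaFn x, -Red.gaFn x', by linear_combination -hx, by linear_combination -hx⟩
  have h1 : (u : Γ(X.left, ⊤)) = Red.gaFn x := rfl
  have h2 : -((u⁻¹ : Γ(X.left, ⊤)ˣ) : Γ(X.left, ⊤)) = Red.gaFn x' := neg_neg _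
  have h3 : (ptSys H X).p u = x ≫ pp := by rw [ptSys_p, h1, gaPt_gaFn]
  have h4 : (ptSys H X).q (-((u⁻¹ : Γ(X.left, ⊤)ˣ) : Γ(X.left, ⊤))) = x' ≫ pm := by
    rw [ptSys_q, h2, gaPt_gaFn]
  exact ⟨u, h1, h2, by rw [Sys.w, h3, h4], h3, h4⟩

end K214.RankOnePts
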