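import Groth.Agent.Red.K214.EtaleSub
import Groth.Agent.Sga3B.SplitBc264

/-!
# Étale normal subgroups of `T ⋉ 𝔾_a`
-/

set_option autoImplicit false
universe u
open CategoryTheory MonoidalCategory CartesianMonoidalCategory MonObj GrpObj AlgebraicGeometry Limits
open Polynomial

namespace K214.SemiDirect

open Groth.Agent.Sga3B Groth.Agent.Sga3B.GaPts Groth.Agent.Sga3B.PinMod Groth.Agent.Sga3.H811.Pts K214.EtaleSub

section

variable {K : Type u} [Field K]

/-- `𝔾_a` is connected over a field -/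
lemma connectedSpace_ga : ConnectedSpace (Red.Ga (Spec (CommRingCat.of K))).left := by
  have h := isPullback_ga (𝟙 (Spec (CommRingCat.of K)))
  have h1 := h.isIso_fst_of_isIso
  let e : Spec (CommRingCat.of K[X]) ≅ (Red.Ga (Spec (CommRingCat.of K))).left :=
    asIso (gaPt (tB (𝟙 (Spec (CommRingCat.of K))) K[X]) (fnOf (𝟙 _) (X : K[X]))).left
  have h3 : ConnectedSpace (Spec (CommRingCat.of K[X])) := inferInstance
  exact (Scheme.homeoOfIso e).surjective.connectedSpace (Scheme.homeoOfIso e).continuous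

lemma connectedSpace_torus {T : Over (Spec (CommRingCat.of K))} [GrpObj T] (hT : Red.IsTorus T) :
    ConnectedSpace T.left := by
  have := TorusIrr.geometricallyIrreducible_of_isTorus hT
  have : IrreducibleSpace T.left := GeometricallyIrreducible.irreducibleSpace_of_subsingleton T.hom
  infer_instance

end

lemma isAffineHom_ga {S : Scheme.{u}} : IsAffineHom (Red.Ga S).hom := by
  have h : IsAffineHom (Red.GaZ.{u}).hom := by
    change IsAffineHom (Spec.map _)
    infer_instance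
  exact MorphismProperty.pullback_snd (P := @IsAffineHom) _ _ h

/-- the semi-direct product is separated -/
lemma isSeparated_of_iso {S : Scheme.{u}} {T P : Over S} [GrpObj T] [GrpObj P] (hT : Red.IsTorus T)
    (j : T ⊗ Red.Ga S ⟶ P) (hj : IsIso j) : IsSeparated P.hom := by
  have h1 : IsAffineHom T.hom := TorusAlgClosed.isAffineHom_of_isTorus hT
  have h2 : IsAffineHom (Red.Ga S).hom := isAffineHom_ga
  have h3 : IsSeparated (T ⊗ Red.Ga S).hom := by
    have h4 : IsAffineHom (pullback.fst T.hom (Red.Ga S).hom) :=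
      MorphismProperty.pullback_fst _ _ h2
    have h5 : IsSeparated (pullback.fst T.hom (Red.Ga S).hom ≫ T.hom) := inferInstance
    exact h5
  have h4 : P.hom = (inv j).left ≫ (T ⊗ Red.Ga S).hom := (Over.w _).symm
  rw [h4]
  infer_instance

/-- decomposition of points -/
lemma exists_decomp {S : Scheme.{u}} {T P : Over S} [GrpObj T] [GrpObj P] (jT : T ⟶ P)
    (jU : Red.Ga S ⟶ P) (hiso : IsIso ((jT ⊗ₘ jU) ≫ μ[P])) {X : Over S} (p : X ⟶ P) :
    ∃ (t : X ⟶ T) (x : X ⟶ Red.Ga S), p = (t ≫ jT) * (x ≫ jU) := by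
  refine ⟨p ≫ inv ((jT ⊗ₘ jU) ≫ μ[P]) ≫ fst _ _, p ≫ inv ((jT ⊗ₘ jU) ≫ μ[P]) ≫ snd _ _, ?_⟩
  have h1 : p ≫ inv ((jT ⊗ₘ jU) ≫ μ[P]) = lift (p ≫ inv ((jT ⊗ₘ jU) ≫ μ[P]) ≫ fst _ _)
      (p ≫ inv ((jT ⊗ₘ jU) ≫ μ[P]) ≫ snd _ _) := by
    rw [← Category.assoc, ← Category.assoc, ← comp_lift, lift_fst_snd, Category.comp_id]
  have h2 : p = (p ≫ inv ((jT ⊗ₘ jU) ≫ μ[P])) ≫ (jT ⊗ₘ jU) ≫ μ[P] := by
    rw [Category.assoc, IsIso.inv_hom_id, Category.comp_id]
  conv_lhs => rw [h2, h1]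
  rw [← Category.assoc, lift_map, Hom.mul_def]

/-- the unipotent part is a monomorphism -/
lemma mono_jU {S : Scheme.{u}} {T P : Over S} [GrpObj T] [GrpObj P] (jT : T ⟶ P) [IsMonHom jT]
    (jU : Red.Ga S ⟶ P) (hiso : IsIso ((jT ⊗ₘ jU) ≫ μ[P])) : Mono jU := by
  refine ⟨fun {X} x y h => ?_⟩
  have h1 : lift (1 : X ⟶ T) x ≫ (jT ⊗ₘ jU) ≫ μ[P] = lift (1 : X ⟶ T) y ≫ (jT ⊗ₘ jU) ≫ μ[P] := by
    rw [← Category.assoc, ← Category.assoc, lift_map, lift_map, h]
  have h2 := (cancel_mono _).mp h1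
  have h3 := congrArg (fun k => k ≫ snd _ _) h2
  simpa using h3

theorem main {K : Type u} [Field K] [IsAlgClosed K]
    (T P N : Over (Spec (CommRingCat.of K))) [GrpObj T] [GrpObj P] [GrpObj N] (hT : Red.IsTorus T)
    (α : T ⟶ Red.Gm (Spec (CommRingCat.of K))) (hα : α ≠ 1)
    (jT : T ⟶ P) [IsMonHom jT] (jU : Red.Ga (Spec (CommRingCat.of K)) ⟶ P) [IsMonHom jU]
    (hiso : IsIso ((jT ⊗ₘ jU) ≫ μ[P]))
    (hconj : ∀ (X : Over (Spec (CommRingCat.of K))) (t : X ⟶ T)
      (x x' : X ⟶ Red.Ga (Spec (CommRingCat.of K))), Red.gaFn x' = Red.gmFn (t ≫ α) * Red.gaFn x →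
      (t ≫ jT) * (x ≫ jU) * (t ≫ jT)⁻¹ = x' ≫ jU)
    (n : N ⟶ P) [IsMonHom n] [Mono n] (hn : AlgGrp.IsNormalHom n) (het : Etale N.hom)
    (hNT : ∀ (X : Over (Spec (CommRingCat.of K))) (t : X ⟶ T) (m : X ⟶ N), t ≫ jT = m ≫ n → m = 1) :
    Red.IsTrivialGrp N := by
  have hsep : IsSeparated P.hom := isSeparated_of_iso hT _ hiso
  have hsepN : IsSeparated N.hom := by
    have h1 : Mono n.left := inferInstance
    have h2 : N.hom = n.left ≫ P.hom := (Over.w n).symm
    rw [h2]; infer_instance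
  have := connectedSpace_torus hT
  have := mono_jU jT jU hiso
  apply isTrivialGrp_of_points N het
  intro m
  obtain ⟨t, x, htx⟩ := exists_decomp jT jU hiso (m ≫ n)
  have hcT := conj_eq n hn het jT 1 (MonObj.one_comp _) m
  -- the unipotent part commutes with the torus
  have h1 : jT * (toUnit T ≫ x ≫ jU) * jT⁻¹ = toUnit T ≫ x ≫ jU := by
    rw [htx, MonObj.comp_mul] at hcT
    have h2 : jT * (toUnit T ≫ t ≫ jT) = (toUnit T ≫ t ≫ jT) * jT := by
      have h3 := SplitBc264.torus_comm hT (𝟙 T) (toUnit T ≫ t)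
      have h4 := congrArg (fun k => k ≫ jT) h3
      simp only [MonObj.mul_comp, Category.id_comp, Category.assoc] at h4
      exact h4
    have h5 : jT * ((toUnit T ≫ t ≫ jT) * (toUnit T ≫ x ≫ jU)) * jT⁻¹ =
        (toUnit T ≫ t ≫ jT) * (jT * (toUnit T ≫ x ≫ jU) * jT⁻¹) := by
      rw [← _root_.mul_assoc, h2]
      simp only [_root_.mul_assoc]
    rw [h5] at hcT
    exact mul_left_cancel hcT
  obtain ⟨r, hr⟩ : ∃ r : Γ((𝟙_ (Over (Spec (CommRingCat.of K)))).left, ⊤), r = Red.gaFn x := ⟨_, rfl⟩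
  have h2 : Red.gmFn α * Red.gaFn (toUnit T ≫ x) = Red.gaFn (toUnit T ≫ x) := by
    have h3 := hconj T (𝟙 T) (toUnit T ≫ x) (gaPt T (Red.gmFn α * Red.gaFn (toUnit T ≫ x)))
      (by rw [gaFn_gaPt, Category.id_comp])
    rw [Category.id_comp, Category.assoc, h1, ← Category.assoc, cancel_mono] at h3
    conv_rhs => rw [h3]
    rw [gaFn_gaPt]
  have h3 : x = 1 := by
    by_contra hx
    apply hα
    have h4 : IsUnit (Red.gaFn x) := by
      let e : Γ(Spec (CommRingCat.of K), ⊤) ≅ CommRingCat.of K := Scheme.ΓSpecIso (CommRingCat.of K)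
      have h5 : Red.gaFn x ≠ 0 := fun h => hx (gaFn_injective _ (by rw [h, gaFn_one]))
      have h6 : e.hom (Red.gaFn x) ≠ 0 := by
        intro h
        apply h5
        have h7 : (e.hom ≫ e.inv) (Red.gaFn x) = 0 := by
          change e.inv (e.hom (Red.gaFn x)) = 0
          rw [h, map_zero]
        rw [e.hom_inv_id] at h7
        exact h7
      have h8 : IsUnit (e.inv (e.hom (Red.gaFn x))) := (isUnit_iff_ne_zero.mpr h6).map e.inv.hom
      have h9 : e.inv (e.hom (Red.gaFn x)) = Red.gaFn x := by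
        change (e.hom ≫ e.inv) (Red.gaFn x) = _
        rw [e.hom_inv_id]; rfl
      rwa [h9] at h8
    have h5 : IsUnit (Red.gaFn (toUnit T ≫ x)) := by
      rw [gaFn_comp]
      exact h4.map _
    apply gmFn_injective
    have h6 : Red.gmFn α = 1 := h5.mul_right_cancel (h2.trans (_root_.one_mul _).symm)
    rw [h6, gmFn_one]
  apply hNT _ t m
  rw [htx, h3, MonObj.one_comp, _root_.mul_one]

end K214.SemiDirect
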