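import Groth.Agent.Red.K214.SpecPt
import Groth.Agent.Red.K214.FnForm
import Groth.Agent.Sga3B.ChartGood

/-!
# Dual root homomorphisms and Weyl elements of a split group over an affine base
-/

set_option autoImplicit false
universe u
open CategoryTheory MonoidalCategory CartesianMonoidalCategory MonObj GrpObj AlgebraicGeometry Limits
open TensorProduct

namespace K214.SpecDual

open Groth.Agent.Sga3B Groth.Agent.Sga3B.Cell Groth.Agent.Sga3B.PinMod Groth.Agent.Sga3B.DSPts
  Groth.Agent.Sga3B.GaPts Groth.Agent.Sga3.H811.Pts K214.Basic K214.DatumChev K214.SpecPt K214.FnForm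

variable {R : Type u} [CommRing R]

lemma sc_nat {X Y : Over (Spec (CommRingCat.of R))} (y : Y ⟶ X) (r : R) :
    y.left.appTop (sc X r) = sc Y r := by
  have h : Y.hom = y.left ≫ X.hom := (Over.w y).symm
  change _ = Y.hom.appTop ((Scheme.ΓSpecIso (CommRingCat.of R)).inv r)
  rw [h, Scheme.Hom.comp_appTop]
  rfl

/-- multiplication by a scalar on `𝔾_a` -/
noncomputable def scaleHom (κ : R) : Red.Ga (Spec (CommRingCat.of R)) ⟶ Red.Ga _ :=
  gaPt _ (sc _ κ * Red.gaFn (𝟙 _))

lemma gaFn_comp_scaleHom (κ : R) {X : Over (Spec (CommRingCat.of R))} (x : X ⟶ Red.Ga _) :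
    Red.gaFn (x ≫ scaleHom κ) = sc X κ * Red.gaFn x := by
  rw [scaleHom, comp_gaPt, gaFn_gaPt, map_mul, sc_nat, ← gaFn_comp, Category.comp_id]

instance (κ : R) : IsMonHom (scaleHom κ) := by
  apply Pts.isMonHom_of_points
  intro X x y
  apply gaFn_injective
  rw [gaFn_mul, gaFn_comp_scaleHom, gaFn_comp_scaleHom, gaFn_comp_scaleHom, gaFn_mul, mul_add]

variable {G : Over (Spec (CommRingCat.of R))} [GrpObj G]

omit [GrpObj G] in
lemma V_scaleHom (κ : R) (v : Red.Ga _ ⟶ G) (X : Over (Spec (CommRingCat.of R))) (x : Γ(X.left, ⊤)) :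
    V (scaleHom κ ≫ v) X x = V v X (sc X κ * x) := by
  rw [V, ← Category.assoc]
  apply V_of_eq
  rw [gaFn_comp_scaleHom, gaFn_gaPt]

variable (D : Red.SplitRed G) (c : Chart G (𝟙 (Spec (CommRingCat.of R))))
variable {B : Type u} [CommRing B] [Algebra R B]

lemma res_V (a : D.idx) {X : Over (Spec (CommRingCat.of R))} (y : tS R B ⟶ X) (x : Γ(X.left, ⊤)) :
    y ≫ V (D.u a) X x = c.pts B ((c.datum D).uu a B (rs y x)) := by
  rw [V, res_u D c, gaFn_gaPt]

/-- the restriction of a unit -/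
noncomputable def rsu {X : Over (Spec (CommRingCat.of R))} (y : tS R B ⟶ X) : Γ(X.left, ⊤)ˣ →* Bˣ :=
  Units.map (rs y : _ →* B)

lemma coe_rsu {X : Over (Spec (CommRingCat.of R))} (y : tS R B ⟶ X) (z : Γ(X.left, ⊤)ˣ) :
    ((rsu y z : Bˣ) : B) = rs y z := rfl

/-- the coroot composed with the torus -/
noncomputable abbrev av (a : D.idx) : Red.Gm _ ⟶ G :=
  (Red.DSmap _ (D.P.coroot a).toAddMonoidHom ≫ D.split.inv.hom.hom) ≫ D.i

lemma res_H (a : D.idx) {X : Over (Spec (CommRingCat.of R))} (y : tS R B ⟶ X) (z : Γ(X.left, ⊤)ˣ) :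
    y ≫ H (av D a) X z = c.pts B ((c.datum D).i B (TPt.cow (D.P.coroot a) (rsu y z))) := by
  rw [H, res_av D c]
  congr 3
  ext
  rw [coe_rsU, gmFn_gmPt, coe_rsu]

variable {D c}

theorem rule_of_rel {a : D.idx} {κ : Rˣ} (h : Rel (D := c.datum D) D.P a κ) :
    Rule (D.u a) (scaleHom (κ : R) ≫ D.u (D.P.reflectionPerm a a)) (av D a) := by
  intro X x y z hz
  apply hom_ext_tS
  intro B _ _ p
  have h1 := h (B := B) (rs p x) (rs p y) (rsu p z) (by rw [coe_rsu, hz]; simp)
  have h2 := congrArg (c.pts B) h1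
  rw [map_mul, map_mul, map_mul] at h2
  rw [V_scaleHom, V_scaleHom, MonObj.comp_mul, MonObj.comp_mul, MonObj.comp_mul, res_V D c,
    res_V D c, res_V D c, res_V D c, res_H D c, map_mul, map_mul, map_mul, map_mul, rs_sc]
  exact h2

/-- the Weyl element of a root -/
theorem conj_of_conj {a b b' : D.idx} {κ r : Rˣ}
    (h : ∀ {B : Type u} [CommRing B] [Algebra R B] (x : B),
      nn (D := c.datum D) D.P a κ B * (c.datum D).uu b B x * (nn (D := c.datum D) D.P a κ B)⁻¹ =
        (c.datum D).uu b' B (algebraMap R B r * x)) (X : Over (Spec (CommRingCat.of R)))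
    (x : Γ(X.left, ⊤)) :
    N (D.u a) (scaleHom (κ : R) ≫ D.u (D.P.reflectionPerm a a)) X * V (D.u b) X x *
      (N (D.u a) (scaleHom (κ : R) ≫ D.u (D.P.reflectionPerm a a)) X)⁻¹ =
      V (D.u b') X (sc X (r : R) * x) := by
  apply hom_ext_tS
  intro B _ _ p
  have h2 := congrArg (c.pts B) (h (B := B) (rs p x))
  have h3 : p ≫ N (D.u a) (scaleHom (κ : R) ≫ D.u (D.P.reflectionPerm a a)) X =
      c.pts B (nn (D := c.datum D) D.P a κ B) := by
    rw [N, nn, MonObj.comp_mul, MonObj.comp_mul, V_scaleHom, res_V D c, res_V D c, map_mul, map_mul,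
      map_one, map_mul, map_neg, map_one, rs_sc]
    rfl
  rw [map_mul, map_mul, map_inv] at h2
  rw [MonObj.comp_mul, MonObj.comp_mul, GrpObj.comp_inv, h3, res_V D c, res_V D c, map_mul, rs_sc]
  exact h2

end K214.SpecDual
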