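import Groth.Agent.Red.K214.DatumChev
import Groth.Agent.Red.K214.Basic
import Groth.Agent.Sga3B.PinModelOf

/-!
# Points of a split reductive group over an affine base

Points of `X : Over (Spec R)` are tested on `tB (𝟙 _) B`, `B` an `R`-algebra.
-/

set_option autoImplicit false
universe u
open CategoryTheory MonoidalCategory CartesianMonoidalCategory MonObj GrpObj AlgebraicGeometry Limits
open TensorProduct

namespace K214.SpecPt

open Groth.Agent.Sga3B Groth.Agent.Sga3B.Cell Groth.Agent.Sga3B.PinMod Groth.Agent.Sga3B.DSPts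
  Groth.Agent.Sga3B.GaPts Groth.Agent.Sga3.H811.Pts K214.Basic K214.DatumChev

variable {R : Type u} [CommRing R]

/-- test objects over `Spec R` -/
noncomputable abbrev tS (R : Type u) [CommRing R] (B : Type u) [CommRing B] [Algebra R B] :
    Over (Spec (CommRingCat.of R)) := tB (𝟙 (Spec (CommRingCat.of R))) B

/-- Equality of morphisms over `Spec R` can be tested on `R`-algebras. -/
lemma hom_ext_tS {X Y : Over (Spec (CommRingCat.of R))} (a b : X ⟶ Y)
    (h : ∀ (B : Type u) [CommRing B] [Algebra R B] (y : tS R B ⟶ X), y ≫ a = y ≫ b) : a = b := by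
  have h0 : ∀ (B : CommRingCat.{u}) (v : Spec B ⟶ X.left), v ≫ a.left = v ≫ b.left := by
    intro B v
    let φ : CommRingCat.of R ⟶ B := Spec.preimage (v ≫ X.hom)
    let : Algebra R B := φ.hom.toAlgebra
    have hφ : Spec.map (CommRingCat.ofHom (algebraMap R B)) = v ≫ X.hom := Spec.map_preimage _
    have hw : v ≫ X.hom = (tS R B).hom := by
      change _ = Spec.map (CommRingCat.ofHom (algebraMap R B)) ≫ 𝟙 _
      rw [Category.comp_id, hφ]
    exact congrArg CommaMorphism.left (h B (Over.homMk v hw))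
  ext1
  exact X.left.affineOpenCover.openCover.hom_ext _ _ fun x => h0 _ _

variable {B : Type u} [CommRing B] [Algebra R B]

/-- restriction of functions along `y : Spec B ⟶ X` -/
noncomputable def rs {X : Over (Spec (CommRingCat.of R))} (y : tS R B ⟶ X) : Γ(X.left, ⊤) →+* B :=
  (Scheme.ΓSpecIso (CommRingCat.of B)).hom.hom.comp y.left.appTop.hom

lemma fnOf_rs {X : Over (Spec (CommRingCat.of R))} (y : tS R B ⟶ X) (g : Γ(X.left, ⊤)) :
    fnOf (𝟙 (Spec (CommRingCat.of R))) (rs y g) = y.left.appTop g := by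
  change ((Scheme.ΓSpecIso (CommRingCat.of B)).hom ≫ (Scheme.ΓSpecIso (CommRingCat.of B)).inv)
    (y.left.appTop g) = _
  rw [Iso.hom_inv_id]
  rfl

lemma comp_gaPt' {X : Over (Spec (CommRingCat.of R))} (y : tS R B ⟶ X) (g : Γ(X.left, ⊤)) :
    y ≫ gaPt X g = gaPt (tS R B) (fnOf (𝟙 (Spec (CommRingCat.of R))) (rs y g)) := by
  rw [comp_gaPt, fnOf_rs]

/-- scalars as functions on `X` -/
noncomputable def sc (X : Over (Spec (CommRingCat.of R))) : R →+* Γ(X.left, ⊤) :=
  X.hom.appTop.hom.comp (Scheme.ΓSpecIso (CommRingCat.of R)).inv.hom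

lemma rs_sc {X : Over (Spec (CommRingCat.of R))} (y : tS R B ⟶ X) (r : R) :
    rs y (sc X r) = algebraMap R B r := by
  have h1 : y.left.appTop (sc X r) = (tS R B).hom.appTop ((Scheme.ΓSpecIso (CommRingCat.of R)).inv r) := by
    rw [← Over.w y, Scheme.Hom.comp_appTop]
    rfl
  have h2 : (tS R B).hom = Spec.map (CommRingCat.ofHom (algebraMap R B)) := Category.comp_id _
  have h3 := congrArg (fun k => CommRingCat.Hom.hom k r)
    (Scheme.ΓSpecIso_inv_naturality (CommRingCat.ofHom (algebraMap R B)))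
  have h4 : (tS R B).hom.appTop ((Scheme.ΓSpecIso (CommRingCat.of R)).inv r) =
      (Scheme.ΓSpecIso (CommRingCat.of B)).inv (algebraMap R B r) := by
    rw [h2]; exact h3.symm
  change (Scheme.ΓSpecIso (CommRingCat.of B)).hom (y.left.appTop (sc X r)) = _
  rw [h1, h4]
  change ((Scheme.ΓSpecIso (CommRingCat.of B)).inv ≫ (Scheme.ΓSpecIso (CommRingCat.of B)).hom)
    (algebraMap R B r) = _
  rw [Iso.inv_hom_id]
  rfl

variable {G : Over (Spec (CommRingCat.of R))} [GrpObj G] (D : Red.SplitRed G)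
  (c : Chart G (𝟙 (Spec (CommRingCat.of R))))

/-- restriction of root group elements to test objects -/
lemma res_u (a : D.idx) {X : Over (Spec (CommRingCat.of R))} (y : tS R B ⟶ X) (x : X ⟶ Red.Ga _) :
    y ≫ x ≫ D.u a = c.pts B ((c.datum D).uu a B (rs y (Red.gaFn x))) := by
  rw [c.pts_uu, ← comp_gaPt', gaPt_gaFn, Category.assoc]

/-- restriction of units -/
noncomputable def rsU {X : Over (Spec (CommRingCat.of R))} (y : tS R B ⟶ X) (z : X ⟶ Red.Gm _) : Bˣ :=
  Units.map (rs y : _ →* B) (isUnit_gmFn z).unit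

lemma coe_rsU {X : Over (Spec (CommRingCat.of R))} (y : tS R B ⟶ X) (z : X ⟶ Red.Gm _) :
    ((rsU y z : Bˣ) : B) = rs y (Red.gmFn z) := rfl

/-- restriction of coroot elements to test objects -/
lemma res_av (f : Module.Dual ℤ D.M) {X : Over (Spec (CommRingCat.of R))} (y : tS R B ⟶ X)
    (z : X ⟶ Red.Gm _) :
    y ≫ z ≫ (Red.DSmap _ f.toAddMonoidHom ≫ D.split.inv.hom.hom) ≫ D.i =
      c.pts B ((c.datum D).i B (TPt.cow f (rsU y z))) := by
  rw [c.pts_i]
  change _ = dsEquiv (tB (𝟙 _) B) D.M (chΓ (𝟙 _) (TPt.cow f (rsU y z))) ≫ D.split.inv.hom.hom ≫ D.i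
  rw [Category.assoc, ← Category.assoc z, ← Category.assoc y, ← Category.assoc y]
  congr 1
  have h0 : y ≫ z = dsEquiv (tS R B) ℤ ((y.left.appTop.hom : Γ(X.left, ⊤) →* _).comp (dsChar z)) := by
    conv_lhs => rw [← dsEquiv_dsChar z]
    rw [dsEquiv_naturality]
  rw [h0, dsEquiv_DSmap]
  congr 1
  refine MonoidHom.ext fun m => ?_
  change y.left.appTop (dsChar z (Multiplicative.ofAdd (f m.toAdd))) =
    fnOf _ (((rsU y z) ^ (f m.toAdd) : Bˣ) : B)
  have h1 : ∀ n : ℤ, dsChar z (Multiplicative.ofAdd n) = (((isUnit_gmFn z).unit ^ n : Γ(X.left, ⊤)ˣ) : Γ(X.left, ⊤)) := by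
    intro n
    have h2 : dsChar z = (Units.coeHom _).comp (zpowersHom _ (isUnit_gmFn z).unit) := by
      apply MonoidHom.ext_mint
      rw [← Groth.Agent.Sga3B.GaPts.gmFn_eq]
      simp
    rw [h2]; simp [zpowersHom_apply]
  rw [h1, rsU, ← map_zpow]
  exact (fnOf_rs y _).symm

end K214.SpecPt
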