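import Groth.Agent.Red.K214.FnForm
import Groth.Agent.Sga3B.SplitBc264b
import Groth.Agent.Sga3B.PinTransport

/-!
# Transport of points along base change and an isomorphism
-/

set_option autoImplicit false
universe u
open CategoryTheory MonoidalCategory CartesianMonoidalCategory MonObj GrpObj AlgebraicGeometry Limits

namespace K214.ZTrans

open Groth.Agent.Sga3B Groth.Agent.Sga3B.DSPts Groth.Agent.Sga3B.SplitBc264
  Groth.Agent.Sga3B.GaPts Groth.Agent.Sga3.H811.Pts K214.FnForm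

variable {S Z : Scheme.{u}} (f : S ⟶ Z) {G₀ : Over Z} [GrpObj G₀] {G : Over S} [GrpObj G]
  (F : Red.bc f G₀ ≅ G) [IsMonHom F.hom]

/-- points of `G` from points of `G₀` -/
noncomputable def Φ (X : Over S) : ((Over.map f).obj X ⟶ G₀) →* (X ⟶ G) where
  toFun g := bcEquiv f X G₀ g ≫ F.hom
  map_one' := by rw [map_one, MonObj.one_comp]
  map_mul' g h := by rw [map_mul, MonObj.mul_comp]

lemma Φ_apply (X : Over S) (g : (Over.map f).obj X ⟶ G₀) : Φ f F X g = bcEquiv f X G₀ g ≫ F.hom := rfl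

/-- transport of morphisms from `𝔾_a` -/
noncomputable def tr (w : Red.Ga Z ⟶ G₀) : Red.Ga S ⟶ G :=
  (gaBcIso f).inv.hom.hom ≫ (Over.pullback f).map w ≫ F.hom

instance (w : Red.Ga Z ⟶ G₀) [IsMonHom w] : IsMonHom (tr f F w) := by
  have : IsMonHom (gaBcIso f).inv.hom.hom := (gaBcIso f).inv.hom.isMonHom_hom
  rw [tr]
  infer_instance

lemma bcEquiv_gaPt (X : Over S) (x : Γ(X.left, ⊤)) :
    gaPt X x ≫ (gaBcIso f).inv.hom.hom = bcEquiv f X (Red.Ga Z) (gaPt ((Over.map f).obj X) x) := by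
  rw [← (bcEquiv f X (Red.Ga Z)).symm_apply_eq]
  apply gaFn_injective
  rw [gaFn_gaPt, ← gaFn_gaBcIso, Category.assoc, map_inv_hom, Category.comp_id, gaFn_gaPt]

lemma V_tr (w : Red.Ga Z ⟶ G₀) (X : Over S) (x : Γ(X.left, ⊤)) :
    V (tr f F w) X x = Φ f F X (V w ((Over.map f).obj X) x) := by
  rw [V, tr, ← Category.assoc, bcEquiv_gaPt, ← Category.assoc, bcEquiv_comp]
  rfl

omit [GrpObj G₀] [GrpObj G] [IsMonHom F.hom] in
lemma isClosedImmersion_tr (w : Red.Ga Z ⟶ G₀) (h : IsClosedImmersion w.left) :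
    IsClosedImmersion (tr f F w).left := by
  have := isClosedImmersion_bc f w h
  have h4 : IsIso (gaBcIso f).inv.hom.hom.left := by
    have : IsIso (RedIso.und (gaBcIso f)).inv := inferInstance
    exact inferInstanceAs (IsIso (RedIso.und (gaBcIso f)).inv.left)
  have h5 : IsIso F.hom.left := inferInstance
  rw [tr, Over.comp_left, Over.comp_left]
  infer_instance

variable {M : Type} [AddCommGroup M] {T₀ : Over Z} [GrpObj T₀] {T : Over S} [GrpObj T] {i₀ : T₀ ⟶ G₀}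
  {i : T ⟶ G} (e₀ : Grp.mk T₀ ≅ Grp.mk (Red.DS Z M)) (e : Grp.mk T ≅ Grp.mk (Red.DS S M))
  (hF : (Over.pullback f).map i₀ ≫ F.hom =
    (BcIso.bcMapIso f e₀ ≪≫ TorusAlgClosed.dsBcIso f M).hom.hom.hom ≫ e.inv.hom.hom ≫ i)

include hF in
lemma tr_torus (X : Over S) (χ : Multiplicative M →* Γ(X.left, ⊤)) :
    dsEquiv X M χ ≫ e.inv.hom.hom ≫ i =
      Φ f F X (dsEquiv ((Over.map f).obj X) M χ ≫ e₀.inv.hom.hom ≫ i₀) := by
  rw [Φ_apply, ← Category.assoc (dsEquiv ((Over.map f).obj X) M χ), ← bcEquiv_comp, Category.assoc,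
    hF, ← Category.assoc (bcEquiv f X T₀ _), ← Category.assoc (dsEquiv X M χ)]
  rw [← Category.assoc (bcEquiv f X T₀ _ ≫ _)]
  congr 2
  have h1 : (BcIso.bcMapIso f e₀ ≪≫ TorusAlgClosed.dsBcIso f M).hom.hom.hom =
    (Over.pullback f).map e₀.hom.hom.hom ≫ (TorusAlgClosed.dsBcIso f M).hom.hom.hom := rfl
  rw [h1, ← Category.assoc, bcEquiv_comp, Category.assoc, map_inv_hom, Category.comp_id]
  rw [← dsEquiv_dsChar (bcEquiv f X _ _ ≫ _), dsChar_dsBcIso, MulEquiv.symm_apply_apply,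
    dsChar_dsEquiv]

omit [GrpObj G] in
/-- points of `T` as characters -/
lemma comp_i (X : Over S) (t : X ⟶ T) :
    t ≫ i = dsEquiv X M (dsChar (t ≫ e.hom.hom.hom)) ≫ e.inv.hom.hom ≫ i := by
  rw [dsEquiv_dsChar, Category.assoc, ← Category.assoc e.hom.hom.hom, map_hom_inv, Category.id_comp]

lemma gmFn_comp_chi (X : Over S) (t : X ⟶ T) (m : M) :
    Red.gmFn (t ≫ e.hom.hom.hom ≫ Red.chi S m) = dsChar (t ≫ e.hom.hom.hom) (Multiplicative.ofAdd m) := by
  rw [← Category.assoc, gmFn_chi]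

include hF in
/-- **Transport of root homomorphisms.** -/
theorem isRootHom_tr {w : Red.Ga Z ⟶ G₀} {m : M} (h : Red.IsRootHom i₀ (e₀.hom.hom.hom ≫ Red.chi Z m) w) :
    Red.IsRootHom i (e.hom.hom.hom ≫ Red.chi S m) (tr f F w) := by
  obtain ⟨h1, h2, h3⟩ := h
  refine ⟨inferInstance, isClosedImmersion_tr f F w h2, fun X t x => ?_⟩
  let xf : Γ(X.left, ⊤) := Red.gaFn x
  let χ : Multiplicative M →* Γ(X.left, ⊤) := dsChar (t ≫ e.hom.hom.hom)
  obtain ⟨y, hy1, hy2⟩ := h3 ((Over.map f).obj X)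
    (dsEquiv ((Over.map f).obj X) M χ ≫ e₀.inv.hom.hom)
    (gaPt ((Over.map f).obj X) xf)
  let yf : Γ(((Over.map f).obj X).left, ⊤) := Red.gaFn y
  refine ⟨gaPt X yf, ?_, ?_⟩
  · have h4 := congrArg (Φ f F X) hy1
    rw [map_mul, map_mul, map_inv, Category.assoc, ← tr_torus f F e₀ e hF, ← comp_i] at h4
    have h5 := V_tr f F w X (Red.gaFn x)
    rw [V_gaFn] at h5
    rw [h5]
    refine Eq.trans ?_ h4
    have h6 := V_tr f F w X yf
    rw [V] at h6
    rw [h6]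
    congr 1
    exact V_gaFn w y
  · rw [gaFn_gaPt, gmFn_comp_chi]
    refine hy2.trans ?_
    rw [gaFn_gaPt, gmFn_comp_chi, Category.assoc, map_inv_hom, Category.comp_id, dsChar_dsEquiv]

end K214.ZTrans
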